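import Cfsg.Agent.Lib.ProductFusion.Central

/-!
Elements of odd order normalizing a member of the family with a big component.
-/

set_option autoImplicit false
set_option linter.unusedSectionVars false

namespace CfsgLib.ProductFusion

open Subgroup Cfsg
open CfsgLib.Techniques.AlperinGoldschmidtCore (good)

variable {G : Type*} [Group G] [Finite G]

theorem zmod_add_self (a : ZMod 2) : a + a = 0 := CharTwo.add_self_eq_zero a

/-- A homomorphism shifted by an invariant one under an element of odd order is invariant. -/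
theorem invariant_of_shift {X : Subgroup G} {k : G} (hk : k ∈ normalizer (X : Set G)) (hodd : Odd (orderOf k))
    {χ : G → ZMod 2}
    (hδ : ∀ x ∈ X, χ (k * (k * x * k⁻¹) * k⁻¹) + χ (k * x * k⁻¹) = χ (k * x * k⁻¹) + χ x) :
    ∀ x ∈ X, χ (k * x * k⁻¹) = χ x := by
  intro x hx
  set d := χ (k * x * k⁻¹) + χ x with hd
  have H : ∀ n : ℕ, χ (k ^ n * x * (k ^ n)⁻¹) = χ x + n • d ∧
      χ (k * (k ^ n * x * (k ^ n)⁻¹) * k⁻¹) + χ (k ^ n * x * (k ^ n)⁻¹) = d := by
    intro n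
    induction n with
    | zero => simp [hd]
    | succ n ih =>
      have e : k ^ (n + 1) * x * (k ^ (n + 1))⁻¹ = k * (k ^ n * x * (k ^ n)⁻¹) * k⁻¹ := by
        rw [pow_succ']; group
      have h1 := hδ _ (mem_normalizer_conj (pow_mem hk n) hx)
      refine ⟨?_, by rw [e, h1, ih.2]⟩
      rw [e, succ_nsmul, ← add_assoc, ← ih.1]
      calc χ (k * (k ^ n * x * (k ^ n)⁻¹) * k⁻¹)
          = χ (k * (k ^ n * x * (k ^ n)⁻¹) * k⁻¹) + (χ (k ^ n * x * (k ^ n)⁻¹) + χ (k ^ n * x * (k ^ n)⁻¹)) := by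
            rw [zmod_add_self, add_zero]
        _ = χ (k ^ n * x * (k ^ n)⁻¹) + d := by rw [← ih.2]; ring
  obtain ⟨j, hj⟩ := hodd
  have h2 := (H (orderOf k)).1
  rw [pow_orderOf_eq_one, one_mul, inv_one, mul_one, left_eq_add, hj, succ_nsmul, mul_comm, mul_nsmul', two_nsmul,
    zmod_add_self, nsmul_zero, zero_add] at h2
  exact CharTwo.add_eq_zero.1 (hd ▸ h2)

namespace Split

variable {S : Sylow 2 G} (h : Split S) {X : Subgroup G} (hX : X ∈ good S)
include hX

theorem z_mem' : h.swap.z ∈ X := h.swap.z_mem_good hX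

/-- Elements of odd order fix the squares. -/
theorem sq_fixed (hk : 1 ≤ h.k) {k : G} (hn : k ∈ normalizer (X : Set G)) (hodd : Odd (orderOf k)) {x : G}
    (hx : x ∈ X) : k * (x * x) * k⁻¹ = x * x := by
  set Q := closure {a | ∃ y ∈ X, y * y = a} with hQ
  let R : Subgroup G :=
    { carrier := {y | y ∈ X ∧ h.p y ∈ h.C ∧ h.q y ∈ h.swap.C ∧ (h.k' = 0 → h.q y = 1)}
      one_mem' := ⟨one_mem _, by rw [h.p_one]; exact one_mem _,
        by rw [show h.q 1 = 1 from h.swap.p_one]; exact one_mem _, fun _ => h.swap.p_one⟩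
      mul_mem' := fun {a b} ha hb => ⟨mul_mem ha.1 hb.1,
        by rw [h.p_hom (good_le hX ha.1) (good_le hX hb.1)]; exact mul_mem ha.2.1 hb.2.1,
        by rw [h.q_hom (good_le hX ha.1) (good_le hX hb.1)]; exact mul_mem ha.2.2.1 hb.2.2.1,
        fun e => by rw [h.q_hom (good_le hX ha.1) (good_le hX hb.1), ha.2.2.2 e, hb.2.2.2 e, one_mul]⟩
      inv_mem' := fun {a} ha => ⟨inv_mem ha.1, by rw [h.p_inv (good_le hX ha.1)]; exact inv_mem ha.2.1,
        by rw [show h.q a⁻¹ = (h.q a)⁻¹ from h.swap.p_inv (good_le hX ha.1)]; exact inv_mem ha.2.2.1,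
        fun e => by rw [show h.q a⁻¹ = (h.q a)⁻¹ from h.swap.p_inv (good_le hX ha.1), ha.2.2.2 e, inv_one]⟩ }
  have hQR : Q ≤ R := by
    refine (closure_le _).2 ?_
    rintro _ ⟨y, hy, rfl⟩
    exact ⟨mul_mem hy hy, h.sq_rot (good_le hX hy), h.swap.sq_rot (good_le hX hy),
      fun e => h.q_sq_of_zero e (good_le hX hy)⟩
  have hQX : Q ≤ X := fun y hy => (hQR hy).1
  have hinv : ∀ y ∈ Q, k * y * k⁻¹ ∈ Q := by
    intro y hy
    induction hy using closure_induction with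
    | mem a ha =>
      obtain ⟨w, hw, rfl⟩ := ha
      exact subset_closure ⟨k * w * k⁻¹, mem_normalizer_conj hn hw, conj_mul⟩
    | one => simp
    | mul a b _ _ iha ihb => rw [← conj_mul]; exact mul_mem iha ihb
    | inv a _ iha => rw [← conj_inv]; exact inv_mem iha
  have hcent := centralizes_of_omega ((isPGroup_good hX).to_le hQX) (fun a ha b hb =>
    h.commutes (good_le hX (hQX ha)) (good_le hX (hQX hb)) (h.dih.rot_comm (hQR ha).2.1 (hQR hb).2.1)
      (h.swap.dih.rot_comm (hQR ha).2.2.1 (hQR hb).2.2.1)) hinv hodd ?_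
  · rw [← mem_centralizer_iff.1 hcent _ (subset_closure ⟨x, hx, rfl⟩), mul_inv_cancel_right]
  intro a ha ha2
  by_cases ha1 : a = 1
  · simp [ha1]
  -- an involution of `Q` is a square
  have hsquare : ∀ b ∈ Q, b * b = 1 → b ≠ 1 → ∃ u ∈ (S : Subgroup G), u * u = b := by
    intro b hb hb2 hb1
    have hbS := good_le hX (hQX hb)
    rcases Nat.eq_zero_or_pos h.k' with h0 | hk'
    · refine ⟨h.root, h.root_mem_sylow, ?_⟩
      have e := h.mem_A hbS ((hQR hb).2.2.2 h0)
      have hc := (hQR hb).2.1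
      rw [h.p_self e] at hc
      rw [h.root_sq hk, (h.dih.rot_invol hc hb2).resolve_left hb1]
    · rcases h.invol_rot_cases hbS hb2 hb1 (hQR hb).2.1 (hQR hb).2.2.1 with rfl | rfl | rfl
      · exact ⟨h.root, h.root_mem_sylow, h.root_sq hk⟩
      · exact ⟨h.swap.root, h.swap.root_mem_sylow, h.swap.root_sq hk'⟩
      · refine ⟨h.root * h.swap.root, mul_mem h.root_mem_sylow h.swap.root_mem_sylow, ?_⟩
        rw [← h.root_sq hk, ← h.swap.root_sq hk', mul_assoc h.root h.swap.root, ← mul_assoc h.swap.root,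
          ← h.comm (h.C_le h.root_mem) (h.swap.C_le h.swap.root_mem)]
        group
  obtain ⟨u, hu, rfl⟩ := hsquare a ha ha2 ha1
  obtain ⟨v, hv, hv2⟩ := hsquare _ (hinv _ ha) (by rw [conj_mul, ha2, mul_one, mul_inv_cancel])
    (fun e => ha1 (conj_eq_one_iff.1 e))
  rw [← hv2]
  exact (h.sq_conj_eq hk hu ha1 ha2 hv (hv2 ▸ isConj_iff.2 ⟨k, rfl⟩)).symm

omit hX in
/-- The first component of `X` contains a rotation of order greater than two. -/
def Big (X : Subgroup G) : Prop := ∃ c ∈ X, c ∈ h.C ∧ c * c ≠ 1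

theorem exists_sq_z (hb : h.Big X) : ∃ y ∈ X, y * y = h.z := by
  obtain ⟨c, hc, hcC, hc2⟩ := hb
  obtain ⟨y, hy, e⟩ := h.dih.exists_sq_eq_z hcC hc2
  exact ⟨y, zpowers_le.2 hc hy, e⟩

theorem z_fixed (hk : 1 ≤ h.k) (hb : h.Big X) {k : G} (hn : k ∈ normalizer (X : Set G))
    (hodd : Odd (orderOf k)) : k * h.z * k⁻¹ = h.z := by
  obtain ⟨y, hy, e⟩ := h.exists_sq_z hX hb
  rw [← e, h.sq_fixed hX hk hn hodd hy]

/-- The images of the elements of the two components. -/
theorem big_images (hk : 1 ≤ h.k) (hb : h.Big X) {k : G} (hn : k ∈ normalizer (X : Set G))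
    (hodd : Odd (orderOf k)) :
    (∀ c ∈ X, c ∈ h.C → h.p (k * c * k⁻¹) = c ∨ h.p (k * c * k⁻¹) = c * h.z) ∧
    (∀ d ∈ X, d ∈ h.B → h.p (k * d * k⁻¹) = 1 ∨ h.p (k * d * k⁻¹) = h.z) ∧
    (∀ v ∈ X, v ∈ h.A → v ∉ h.C → h.p (k * v * k⁻¹) ∉ h.C) := by
  have hXS := good_le hX
  have hconj := fun {x : G} (hx : x ∈ X) => hXS (mem_normalizer_conj hn hx)
  have hsq : ∀ x ∈ X, h.p (k * x * k⁻¹) * h.p (k * x * k⁻¹) = h.p x * h.p x := fun x hx => by
    rw [← h.p_hom (hconj hx) (hconj hx), conj_mul, h.sq_fixed hX hk hn hodd hx, h.p_hom (hXS hx) (hXS hx)]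
  have hz := h.z_fixed hX hk hb hn hodd
  have hc : ∀ c ∈ X, c ∈ h.C → h.p (k * c * k⁻¹) = c ∨ h.p (k * c * k⁻¹) = c * h.z := by
    intro c hc hcC
    by_cases h2 : c * c = 1
    · rcases h.dih.rot_invol hcC h2 with rfl | e
      · left; simp [h.p_one]
      · left; rw [e, hz, h.p_z]
    · have he := hsq c hc
      rw [h.p_self (h.C_le hcC)] at he
      have heA := h.p_mem (hconj hc)
      have heC : h.p (k * c * k⁻¹) ∈ h.C := by_contra fun hn' => h2 (he ▸ h.dih.refl_sq heA hn')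
      have hcomm := h.dih.rot_comm hcC heC
      have hd : c⁻¹ * h.p (k * c * k⁻¹) * (c⁻¹ * h.p (k * c * k⁻¹)) = 1 := by
        rw [(Commute.inv_right (show Commute (h.p (k * c * k⁻¹)) c from hcomm.symm)).mul_mul_mul_comm, he]
        group
      rcases h.dih.rot_invol (mul_mem (inv_mem hcC) heC) hd with e | e
      · exact Or.inl (inv_mul_eq_one.1 e).symm
      · exact Or.inr (inv_mul_eq_iff_eq_mul.1 e)
  obtain ⟨c, hcX, hcC, hc2⟩ := hb
  have heC : h.p (k * c * k⁻¹) ∈ h.C := by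
    rcases hc c hcX hcC with e | e <;> rw [e]
    exacts [hcC, mul_mem hcC h.z_mem_C]
  have hee := hsq c hcX
  rw [h.p_self (h.C_le hcC)] at hee
  refine ⟨hc, fun d hd hdB => ?_, fun v hv hvA hvC hbad => ?_⟩
  · have hd2 := hsq d hd
    rw [show h.p d = 1 from h.swap.q_self hdB, one_mul] at hd2
    refine h.dih.rot_invol (by_contra fun hn' => hc2 ?_) hd2
    have hcd : c * d = d * c := h.comm (h.C_le hcC) hdB
    have e := congrArg h.p (show k * c * k⁻¹ * (k * d * k⁻¹) = k * d * k⁻¹ * (k * c * k⁻¹) by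
      rw [conj_mul, conj_mul, hcd])
    rw [h.p_hom (hconj hcX) (hconj hd), h.p_hom (hconj hd) (hconj hcX)] at e
    have h3 := h.dih.refl_conj (h.p_mem (hconj hd)) hn' heC
    rw [← e, mul_inv_cancel_right] at h3
    rw [← hee]
    nth_rewrite 1 [h3]
    exact inv_mul_cancel _
  · -- otherwise the commutator of `v` and `c` would vanish
    have e : k * v * k⁻¹ * (k * c * k⁻¹) = k * c⁻¹ * k⁻¹ * (k * v * k⁻¹) := by
      rw [conj_mul, conj_mul, ← h.dih.refl_conj hvA hvC hcC, inv_mul_cancel_right]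
    have e2 := congrArg h.p e
    rw [h.p_hom (hconj hv) (hconj hcX), h.p_hom (hconj (inv_mem hcX)) (hconj hv), ← conj_inv,
      h.p_inv (hconj hcX), h.dih.rot_comm hbad heC, mul_left_inj] at e2
    refine hc2 ?_
    rw [← hee]
    nth_rewrite 1 [e2]
    exact inv_mul_cancel _

/-- Having a rotation as first component is invariant. -/
theorem p_rot_iff (hk : 1 ≤ h.k) (hb : h.Big X) {k : G} (hn : k ∈ normalizer (X : Set G))
    (hodd : Odd (orderOf k)) {x : G} (hx : x ∈ X) : h.p (k * x * k⁻¹) ∈ h.C ↔ h.p x ∈ h.C := by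
  have hXS := good_le hX
  have hpx := h.p_mem_good hX hx
  have hqx := h.q_mem_good hX hx
  obtain ⟨h1, h2, h3⟩ := h.big_images hX hk hb hn hodd
  have e : h.p (k * x * k⁻¹) = h.p (k * h.p x * k⁻¹) * h.p (k * h.q x * k⁻¹) := by
    rw [← h.p_hom (hXS (mem_normalizer_conj hn hpx)) (hXS (mem_normalizer_conj hn hqx)), conj_mul,
      ← (h.decomp (hXS hx)).2.2]
  have hg : h.p (k * h.q x * k⁻¹) ∈ h.C := by
    rcases h2 _ hqx (h.q_mem (hXS hx)) with e2 | e2 <;> rw [e2]
    exacts [one_mem _, h.z_mem_C]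
  rw [e]
  constructor
  · intro hmem
    by_contra hc
    refine h3 _ hpx (h.p_mem (hXS hx)) hc ?_
    simpa using mul_mem hmem (inv_mem hg)
  · intro hc
    refine mul_mem ?_ hg
    rcases h1 _ hpx hc with e2 | e2 <;> rw [e2]
    exacts [hc, mul_mem hc h.z_mem_C]

/-- A homomorphism trivial on the second component is preserved. -/
theorem preserve₀ (hk : 1 ≤ h.k) (hb : h.Big X) {χ : G → ZMod 2}
    (hadd : ∀ x ∈ X, ∀ y ∈ X, χ (x * y) = χ x + χ y) (hB : ∀ d ∈ X, d ∈ h.B → χ d = 0) {k : G}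
    (hn : k ∈ normalizer (X : Set G)) (hodd : Odd (orderOf k)) : ∀ x ∈ X, χ (k * x * k⁻¹) = χ x := by
  have hXS := good_le hX
  have hconj := fun {x : G} (hx : x ∈ X) => mem_normalizer_conj hn hx
  obtain ⟨h1, h2, h3⟩ := h.big_images hX hk hb hn hodd
  have hzX := h.z_mem_good hX
  have hz0 : χ h.z = 0 := by
    obtain ⟨y, hy, e⟩ := h.exists_sq_z hX hb
    rw [← e, hadd y hy y hy, zmod_add_self]
  have hp : ∀ x ∈ X, χ x = χ (h.p x) := fun x hx => by
    conv_lhs => rw [(h.decomp (hXS hx)).2.2]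
    rw [hadd _ (h.p_mem_good hX hx) _ (h.q_mem_good hX hx), hB _ (h.q_mem_good hX hx) (h.q_mem (hXS hx)),
      add_zero]
  set δ : G → ZMod 2 := fun x => χ (k * x * k⁻¹) + χ x with hδ
  have hδadd : ∀ x ∈ X, ∀ y ∈ X, δ (x * y) = δ x + δ y := fun x hx y hy => by
    simp only [hδ]
    rw [← conj_mul, hadd _ (hconj hx) _ (hconj hy), hadd x hx y hy]
    ring
  have hδB : ∀ d ∈ X, d ∈ h.B → δ d = 0 := fun d hd hdB => by
    simp only [hδ]
    rw [hp _ (hconj hd), hB d hd hdB, add_zero]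
    rcases h2 d hd hdB with e | e <;> rw [e]
    · simpa using hadd 1 (one_mem _) 1 (one_mem _)
    · exact hz0
  have hδC : ∀ c ∈ X, c ∈ h.C → δ c = 0 := fun c hc hcC => by
    simp only [hδ]
    rw [hp _ (hconj hc)]
    rcases h1 c hc hcC with e | e <;> rw [e]
    · exact zmod_add_self _
    · rw [hadd c hc _ hzX, hz0, add_zero, zmod_add_self]
  obtain ⟨v, hv, hvA, hvC⟩ := h.exists_refl_good hX
  have hform : ∀ x ∈ X, (h.p x ∈ h.C → δ x = 0) ∧ (h.p x ∉ h.C → δ x = δ v) := by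
    intro x hx
    have hpx := h.p_mem_good hX hx
    have e : δ x = δ (h.p x) := by
      conv_lhs => rw [(h.decomp (hXS hx)).2.2]
      rw [hδadd _ hpx _ (h.q_mem_good hX hx), hδB _ (h.q_mem_good hX hx) (h.q_mem (hXS hx)), add_zero]
    refine ⟨fun hc => e.trans (hδC _ hpx hc), fun hc => e.trans ?_⟩
    have := hδC _ (mul_mem hv hpx) (h.dih.refl_mul hvA hvC (h.p_mem (hXS hx)) hc)
    rw [hδadd v hv _ hpx] at this
    exact (CharTwo.add_eq_zero.1 this).symm
  refine invariant_of_shift hn hodd fun x hx => ?_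
  show δ (k * x * k⁻¹) = δ x
  have hiff := h.p_rot_iff hX hk hb hn hodd hx
  by_cases hc : h.p x ∈ h.C
  · rw [(hform _ (hconj hx)).1 (hiff.2 hc), (hform x hx).1 hc]
  · rw [(hform _ (hconj hx)).2 (mt hiff.1 hc), (hform x hx).2 hc]

/-- A homomorphism preserved on the second component is preserved. -/
theorem preserve (hk : 1 ≤ h.k) (hb : h.Big X) {χ : G → ZMod 2}
    (hadd : ∀ x ∈ X, ∀ y ∈ X, χ (x * y) = χ x + χ y) {k : G} (hn : k ∈ normalizer (X : Set G))
    (hodd : Odd (orderOf k)) (hB : ∀ d ∈ X, d ∈ h.B → χ (k * d * k⁻¹) = χ d) :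
    ∀ x ∈ X, χ (k * x * k⁻¹) = χ x := by
  refine invariant_of_shift hn hodd fun x hx => ?_
  exact h.preserve₀ hX hk hb (χ := fun y => χ (k * y * k⁻¹) + χ y)
    (fun a ha b hb' => by
      rw [← conj_mul, hadd _ (mem_normalizer_conj hn ha) _ (mem_normalizer_conj hn hb'), hadd a ha b hb']
      ring)
    (fun d hd hdB => by rw [hB d hd hdB, zmod_add_self]) hn hodd x hx

end Split

end CfsgLib.ProductFusion
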