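import Cfsg.Agent.Lib.ProductFusion.Twist

/-!
The fusion of involutions when both factors are nonabelian.
-/

set_option autoImplicit false
set_option linter.unusedSectionVars false

namespace CfsgLib.ProductFusion

open Subgroup Cfsg
open CfsgLib.Techniques.AlperinGoldschmidtCore (good)

variable {G : Type*} [Group G] [Finite G]

namespace Split

variable {S : Sylow 2 G} (h : Split S) (hk : 1 ≤ h.k) (hk' : 1 ≤ h.k')
include hk hk'

/-- A conjugation into the Sylow subgroup fixes `z` if the first component is a rotation. -/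
theorem fix_of_rot {x g : G} (hx : x ∈ (S : Subgroup G))
    (hg : ∀ y ∈ (S : Subgroup G), y * x = x * y → g * y * g⁻¹ ∈ (S : Subgroup G)) (hc : h.p x ∈ h.C) :
    g * h.z * g⁻¹ = h.z := by
  have hu := hg h.root h.root_mem_sylow (h.commutes_A (h.C_le h.root_mem) hx (h.dih.rot_comm h.root_mem hc))
  have e : h.root * h.root = g * h.root * g⁻¹ * (g * h.root * g⁻¹) :=
    h.sq_conj_eq hk h.root_mem_sylow (by rw [h.root_sq hk]; exact h.dih.z_ne)
      (by rw [h.root_sq hk]; exact h.dih.z_sq) hu (isConj_iff.2 ⟨g, conj_mul.symm⟩)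
  rw [conj_mul, h.root_sq hk] at e
  exact e.symm

theorem not_conj_swap_refl {x : G} (hx : x ∈ (S : Subgroup G)) (hc : h.p x ∈ h.C) (hq : h.q x ∉ h.swap.C) :
    ¬ IsConj x h.z := by
  intro he
  obtain ⟨g, hg, hinto⟩ := exists_conj_into hx (fun y hy => h.z_central hy) he
  have e := conj_injective (hg.trans (h.fix_of_rot hk hk' hx hinto hc).symm)
  rw [e, h.q_z] at hq
  exact hq (one_mem _)

theorem conj_mul_swap {x : G} (hx : x ∈ (S : Subgroup G)) (he : IsConj x h.z) (hq : h.q x ∈ h.swap.C) :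
    IsConj (x * h.swap.z) (h.z * h.swap.z) := by
  obtain ⟨g, hg, hinto⟩ := exists_conj_into hx (fun y hy => h.z_central hy) he
  refine isConj_iff.2 ⟨g, ?_⟩
  rw [← conj_mul, hg, h.swap.fix_of_rot hk' hk hx hinto hq]

/-- Conjugating by a root of `z` multiplies a reflection component by `z`. -/
theorem conj_root {x : G} (hx : x ∈ (S : Subgroup G)) (hp : h.p x ∉ h.C) : IsConj x (x * h.z) := by
  refine isConj_iff.2 ⟨h.root, ?_⟩
  rw [h.conj_of_mem_A (h.C_le h.root_mem) hx, h.root_refl hk (h.p_mem hx) hp]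
  nth_rewrite 3 [(h.decomp hx).2.2]
  rw [mul_assoc, h.comm h.z_mem (h.q_mem hx), mul_assoc]

variable (h2 : ∀ N : Subgroup G, N.Normal → N.index ≠ 2)
include h2

/-- Each class of reflections yields conjugates of `z`. -/
theorem exists_conj_z {v : G} (hv : v ∈ h.A) (hn : v ∉ h.C) : IsConj v h.z ∨ IsConj (v * h.swap.z) h.z := by
  classical
  by_contra H0
  push Not at H0
  obtain ⟨φ, hφ, hφv, hφr⟩ := h.exists_class hv hn
  have hφ1 : φ 1 = 0 := by simpa using hφ 1 (one_mem _) 1 (one_mem _)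
  have hφz : φ h.z = 0 := by
    rw [← h.root_sq hk, hφ _ (h.C_le h.root_mem) _ (h.C_le h.root_mem), CharTwo.add_self_eq_zero]
  have H : ∀ w ∈ h.A, w ∉ h.C → φ w = 1 → ¬ IsConj w h.z ∧ ¬ IsConj (w * h.swap.z) h.z := by
    intro w hw hwn hw1
    obtain ⟨a, ha, e⟩ := h.exists_conj_of_parity hφ hφr hv hn hw hwn (hφv.trans hw1.symm)
    refine ⟨fun hc => H0.1 ((isConj_iff.2 ⟨a, e⟩ : IsConj v w).trans hc), fun hc => H0.2 (IsConj.trans ?_ hc)⟩
    refine isConj_iff.2 ⟨a, ?_⟩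
    rw [← conj_mul, e, h.swap_z_central (h.le ha), mul_inv_cancel_right]
  obtain ⟨hn1, hn2, hn3⟩ := h.z_not_conj hk hk'
  have hadd : ∀ x ∈ (S : Subgroup G), ∀ y ∈ (S : Subgroup G),
      φ (h.p (x * y)) = φ (h.p x) + φ (h.p y) := fun x hx y hy => by
    rw [h.p_hom hx hy, hφ _ (h.p_mem hx) _ (h.p_mem hy)]
  refine invariant_false h2 (fun x => φ (h.p x)) hadd ?_ (h.le hv) (by rw [h.p_self hv, hφv]; exact one_ne_zero)
  intro X hX k hkN hodd
  have hXS := good_le hX
  have haddX : ∀ x ∈ X, ∀ y ∈ X, φ (h.p (x * y)) = φ (h.p x) + φ (h.p y) :=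
    fun x hx y hy => hadd x (hXS hx) y (hXS hy)
  by_cases hb : h.Big X
  · exact h.preserve₀ hX hk hb (χ := fun x => φ (h.p x)) haddX
      (fun d _ hdB => by rw [show h.p d = 1 from h.swap.q_self hdB, hφ1]) hkN hodd
  have hsmall : ∀ c ∈ X, c ∈ h.C → c = 1 ∨ c = h.z := fun c hc hcC => h.dih.rot_invol hcC (by
    by_contra h4
    exact hb ⟨c, hc, hcC, h4⟩)
  have hrot : ∀ x ∈ X, h.p x ∈ h.C → φ (h.p x) = 0 := fun x hx hc => by
    rcases hsmall _ (h.p_mem_good hX hx) hc with e | e <;> rw [e]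
    exacts [hφ1, hφz]
  by_cases hclass : ∀ w ∈ X, w ∈ h.A → w ∉ h.C → φ w = 0
  · have hzero : ∀ x ∈ X, φ (h.p x) = 0 := fun x hx => by
      by_cases hc : h.p x ∈ h.C
      · exact hrot x hx hc
      · exact hclass _ (h.p_mem_good hX hx) (h.p_mem (hXS hx)) hc
    exact fun x hx => by
      show φ (h.p (k * x * k⁻¹)) = φ (h.p x)
      rw [hzero _ (mem_normalizer_conj hkN hx), hzero x hx]
  push Not at hclass
  obtain ⟨v₀, hv₀, hv₀A, hv₀C, hv₀1⟩ := hclass
  have hrefl : ∀ x ∈ X, h.p x ∉ h.C → φ (h.p x) = 1 := fun x hx hc => by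
    have hprod := h.dih.refl_mul hv₀A hv₀C (h.p_mem (hXS hx)) hc
    have e : φ (v₀ * h.p x) = 0 := by
      rcases hsmall _ (mul_mem hv₀ (h.p_mem_good hX hx)) hprod with e | e <;> rw [e]
      exacts [hφ1, hφz]
    rw [hφ _ hv₀A _ (h.p_mem (hXS hx))] at e
    exact ((CharTwo.add_eq_zero.1 e).symm.trans ((zmod_two _).resolve_left hv₀1))
  have hzX := h.z_mem_good hX
  have hzz : k * h.z * k⁻¹ * (k * h.z * k⁻¹) = 1 := by
    rw [conj_mul, h.dih.z_sq, mul_one, mul_inv_cancel]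
  have hz1 : k * h.z * k⁻¹ ≠ 1 := fun e => h.dih.z_ne (conj_eq_one_iff.1 e)
  -- the conjugates of `z` in `X` with a rotation as one of the components
  have hcand : ∀ y ∈ X, y * y = 1 → y ≠ 1 → IsConj y h.z → y ≠ h.z →
      h.p y ∉ h.C ∧ h.q y ∉ h.swap.C := by
    intro y hy hy2 hy1 hyc hyz
    have hyS := hXS hy
    have hboth : h.q y ∈ h.swap.C → h.p y ∉ h.C := fun hq hp => by
      rcases h.invol_rot_cases hyS hy2 hy1 hp hq with rfl | rfl | rfl
      exacts [hyz rfl, hn1 hyc.symm, hn2 hyc.symm]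
    by_cases hp : h.p y ∈ h.C
    · exact absurd hyc (h.not_conj_swap_refl hk hk' hyS hp fun hq => hboth hq hp)
    refine ⟨hp, fun hq => ?_⟩
    obtain ⟨H1, H2⟩ := H _ (h.p_mem hyS) hp (hrefl y hy hp)
    rcases h.swap.p_invol_rot hyS hy2 hq with e | e
    · rw [h.mem_A hyS e |> h.p_self] at H1
      exact H1 hyc
    · rw [← show h.q y = h.swap.z from e, ← (h.decomp hyS).2.2] at H2
      exact H2 hyc
  by_cases hb' : h.swap.Big X
  · have hz' := h.swap.z_fixed hX hk' hb' hkN hodd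
    obtain ⟨-, hB, -⟩ := h.swap.big_images hX hk' hb' hkN hodd
    have hz : k * h.z * k⁻¹ = h.z := by
      by_contra hne
      refine (hcand _ (mem_normalizer_conj hkN hzX) hzz hz1 (isConj_iff.2 ⟨k, rfl⟩ : IsConj h.z _).symm hne).2 ?_
      rcases hB _ hzX h.z_mem with e | e <;> rw [show h.q (k * h.z * k⁻¹) = _ from e]
      exacts [one_mem _, h.swap.z_mem_C]
    refine h.swap.preserve hX hk' hb' (χ := fun x => φ (h.p x)) haddX hkN hodd fun d hd hdA => ?_
    show φ (h.p (k * d * k⁻¹)) = φ (h.p d)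
    rw [h.p_self hdA]
    have hkd := mem_normalizer_conj hkN hd
    by_cases hc : d ∈ h.C
    · rcases hsmall d hd hc with rfl | rfl
      · simp [h.p_one]
      · rw [hz, h.p_z]
    · rw [hrefl _ hkd, show φ d = 1 by simpa [h.p_self hdA] using hrefl d hd (by rwa [h.p_self hdA])]
      intro hp
      have hq : h.q (k * d * k⁻¹) ∈ h.swap.C := by
        rcases hB d hd hdA with e | e <;> rw [show h.q (k * d * k⁻¹) = _ from e]
        exacts [one_mem _, h.swap.z_mem_C]
      have hd2 : d * d = 1 := h.dih.refl_sq hdA hc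
      have hd1 : d ≠ 1 := fun e => hc (e ▸ one_mem _)
      have hmove : ∀ w, k * w * k⁻¹ = w → k * d * k⁻¹ = w → d = w := fun w e1 e2 =>
        conj_injective (e2.trans e1.symm)
      rcases h.invol_rot_cases (hXS hkd) (by rw [conj_mul, hd2, mul_one, mul_inv_cancel])
        (fun e => hd1 (conj_eq_one_iff.1 e)) hp hq with e | e | e
      · exact hc (hmove _ hz e ▸ h.z_mem_C)
      · have e' := hmove _ hz' e
        rw [e'] at hdA
        exact h.swap.dih.z_ne (h.eq_one hdA h.swap.z_mem)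
      · have := hmove _ (by rw [← conj_mul, hz, hz']) e
        exact h.swap.dih.z_ne (h.eq_one (by
          have h3 := mul_mem (inv_mem h.z_mem) hdA
          rwa [this, inv_mul_cancel_left] at h3) h.swap.z_mem)
  -- both components small
  have hel : ∀ x ∈ X, x * x = 1 := by
    intro x hx
    refine h.ext (hXS (mul_mem hx hx)) (one_mem _) ?_ ?_
    · rw [h.p_hom (hXS hx) (hXS hx), h.p_one]
      by_cases hc : h.p x ∈ h.C
      · by_contra h4; exact hb ⟨_, h.p_mem_good hX hx, hc, h4⟩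
      · exact h.dih.refl_sq (h.p_mem (hXS hx)) hc
    · rw [h.q_hom (hXS hx) (hXS hx), show h.q 1 = 1 from h.swap.p_one]
      by_cases hc : h.q x ∈ h.swap.C
      · by_contra h4; exact hb' ⟨_, h.q_mem_good hX hx, hc, h4⟩
      · exact h.swap.dih.refl_sq (h.q_mem (hXS hx)) hc
  have hz : k * h.z * k⁻¹ = h.z := by
    by_contra hne
    set m := k * h.z * k⁻¹ with hm
    have hmX := mem_normalizer_conj hkN hzX
    have hmc : IsConj m h.z := (isConj_iff.2 ⟨k, rfl⟩ : IsConj h.z m).symm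
    obtain ⟨hmp, hmq⟩ := hcand m hmX hzz hz1 hmc hne
    set o := m * h.swap.z with ho
    have hoX : o ∈ X := mul_mem hmX (h.swap.z_mem_good hX)
    have hoc : IsConj o h.z := (h.swap.conj_root hk' hk (hXS hmX) hmq).symm.trans hmc
    set x := k⁻¹ * o * k⁻¹⁻¹ with hx
    have hxX : x ∈ X := mem_normalizer_conj (inv_mem hkN) hoX
    have hxc : IsConj x h.z := (isConj_iff.2 ⟨k⁻¹, rfl⟩ : IsConj o x).symm.trans hoc
    have hkx : k * x * k⁻¹ = o := by rw [hx]; group
    have hxz : x ≠ h.z := fun e => h.swap.dih.z_ne (mul_eq_left.1 (show m * h.swap.z = m by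
      rw [← ho, ← hkx, e]))
    have hx1 : x ≠ 1 := by
      intro e
      obtain ⟨g, hg⟩ := isConj_iff.1 (e ▸ hxc : IsConj (1 : G) h.z)
      rw [mul_one, mul_inv_cancel] at hg
      exact h.dih.z_ne hg.symm
    obtain ⟨hxp, -⟩ := hcand x hxX (hel x hxX) hx1 hxc hxz
    have hxzc : IsConj (x * h.z) h.z := (h.conj_root hk hk' (hXS hxX) hxp).symm.trans hxc
    refine hn1 (IsConj.symm (IsConj.trans ?_ hxzc))
    refine (isConj_iff.2 ⟨k, ?_⟩ : IsConj (x * h.z) h.swap.z).symm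
    rw [← conj_mul, hkx, ho, ← hm, mul_assoc, ← h.swap_z_central (hXS hmX), ← mul_assoc, hzz, one_mul]
  intro x hx
  show φ (h.p (k * x * k⁻¹)) = φ (h.p x)
  have hkx := mem_normalizer_conj hkN hx
  by_cases hc : h.p x ∈ h.C
  · rw [hrot _ hkx (h.fix_p_rot hX hk hel hkN hz hx hc), hrot x hx hc]
  · rw [hrefl x hx hc]
    refine hrefl _ hkx fun hp => hc ?_
    have := h.fix_p_rot hX hk hel (inv_mem hkN) (by
      conv_lhs => rw [← hz]
      group) hkx hp
    rwa [show k⁻¹ * (k * x * k⁻¹) * k⁻¹⁻¹ = x by group] at this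

/-- After a twist all reflections of the first factor are conjugate to `z`. -/
theorem exists_twist_conj : ∃ t : Twist h, ∀ v ∈ t.split.A, v ∉ t.split.C → IsConj v h.z := by
  classical
  have hε : ∀ v ∈ h.A, v ∉ h.C → ∃ a : ZMod 2, IsConj (v * pw h.swap.z a) h.z := fun v hv hn => by
    rcases h.exists_conj_z hk hk' h2 hv hn with e | e
    · exact ⟨0, by simpa [pw] using e⟩
    · exact ⟨1, by simpa [pw] using e⟩
  have hsr : h.s * h.r ∈ h.A := mul_mem h.dih.s_mem h.dih.r_mem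
  have hsrn : h.s * h.r ∉ h.C := h.dih.not_mem_refl (mem_zpowers _)
  obtain ⟨εa, ha⟩ := hε _ h.dih.s_mem h.dih.s_not
  obtain ⟨εb, hb⟩ := hε _ hsr hsrn
  obtain ⟨φ, hφ, hφa, hφb⟩ := h.dih.exists_hom εa εb
  refine ⟨Twist.ofPw h h.swap.z_mem h.swap.dih.z_sq (fun x hx => h.swap_z_central hx) hφ,
    fun u hu hun => ?_⟩
  obtain ⟨d, hd, rfl⟩ := Twist.exists_of_mem _ hu
  have hdn := (Twist.refl_iff _ hd).1 hun
  obtain ⟨ψ, hψ, hψs, hψr⟩ := h.exists_class h.dih.s_mem h.dih.s_not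
  have key : ∀ w ∈ h.A, w ∉ h.C → ψ w = ψ d → IsConj (w * pw h.swap.z (φ w)) h.z →
      IsConj (d * pw h.swap.z (φ d)) h.z := by
    intro w hw hwn e hc
    obtain ⟨a, ha', rfl⟩ := h.exists_conj_of_parity hψ hψr hw hwn hd hdn e
    refine IsConj.trans (IsConj.symm (isConj_iff.2 ⟨a, ?_⟩)) hc
    have e2 : φ (a * w * a⁻¹) = φ w := by
      have h0 : φ 1 = 0 := by simpa using hφ 1 (one_mem _) 1 (one_mem _)
      have h1 := hφ a ha' a⁻¹ (inv_mem ha')
      rw [mul_inv_cancel, h0] at h1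
      rw [hφ _ (mul_mem ha' hw) _ (inv_mem ha'), hφ a ha' w hw, add_right_comm, ← h1, zero_add]
    rw [e2, ← conj_mul]
    congr 1
    unfold pw; split
    · simp
    · rw [h.swap_z_central (h.le ha'), mul_inv_cancel_right]
  show IsConj (d * pw h.swap.z (φ d)) h.z
  rcases zmod_two (ψ d) with e | e
  · exact key _ hsr hsrn (by rw [e, hψ _ h.dih.s_mem _ h.dih.r_mem, hψs, hψr, CharTwo.add_self_eq_zero])
      (hφb.symm ▸ hb)
  · exact key _ h.dih.s_mem h.dih.s_not (hψs.trans e.symm) (hφa.symm ▸ ha)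

omit h2

/-- The separation of the first factor in a normalized splitting. -/
theorem sep_of_conj (hA : ∀ v ∈ h.A, v ∉ h.C → IsConj v h.z)
    (hB : ∀ v ∈ h.B, v ∉ h.swap.C → IsConj v h.swap.z) : h.Sep := by
  obtain ⟨hn1, hn2, hn3⟩ := h.z_not_conj hk hk'
  -- the classification of the conjugates of `z` outside mixed elements
  have hcases : ∀ h' : Split S, 1 ≤ h'.k → 1 ≤ h'.k' → (∀ v ∈ h'.A, v ∉ h'.C → IsConj v h'.z) →
      ∀ y ∈ (S : Subgroup G), y * y = 1 → IsConj y h'.z → h'.q y = 1 ∨ (h'.p y ∉ h'.C ∧ h'.q y ∉ h'.swap.C) := by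
    intro h' hh hh' hA' y hy hy2 hyc
    obtain ⟨m1, m2, -⟩ := h'.z_not_conj hh hh'
    have hy1 : y ≠ 1 := by
      rintro rfl
      obtain ⟨g, hg⟩ := isConj_iff.1 hyc
      rw [mul_one, mul_inv_cancel] at hg
      exact h'.dih.z_ne hg.symm
    by_cases hp : h'.p y ∈ h'.C
    · by_cases hq : h'.q y ∈ h'.swap.C
      · rcases h'.invol_rot_cases hy hy2 hy1 hp hq with rfl | rfl | rfl
        exacts [Or.inl h'.q_z, absurd hyc.symm m1, absurd hyc.symm m2]
      · exact absurd hyc (h'.not_conj_swap_refl hh hh' hy hp hq)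
    · by_cases hq : h'.q y ∈ h'.swap.C
      · rcases h'.swap.p_invol_rot hy hy2 hq with e | e
        · exact Or.inl e
        · exfalso
          have h3 := h'.conj_mul_swap hh hh' (h'.le (h'.p_mem hy)) (hA' _ (h'.p_mem hy) hp)
            (by rw [h'.q_self (h'.p_mem hy)]; exact one_mem _)
          rw [← show h'.q y = h'.swap.z from e, ← (h'.decomp hy).2.2,
            show h'.q y = h'.swap.z from e] at h3
          exact m2 (hyc.symm.trans h3)
      · exact Or.inr ⟨hp, hq⟩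
  intro x hx hx2 y hy hc
  by_cases hx1 : x = 1
  · subst hx1
    obtain ⟨g, hg⟩ := isConj_iff.1 hc
    rw [mul_one, mul_inv_cancel] at hg
    rw [← hg]; exact h.swap.p_one
  have hxz : IsConj x h.z := by
    by_cases hxc : x ∈ h.C
    · rw [(h.dih.rot_invol hxc hx2).resolve_left hx1]
    · exact hA x hx hxc
  have hyc : IsConj y h.z := hc.symm.trans hxz
  have hy2 : y * y = 1 := by
    obtain ⟨g, rfl⟩ := isConj_iff.1 hc
    rw [conj_mul, hx2, mul_one, mul_inv_cancel]
  rcases hcases h hk hk' hA y hy hy2 hyc with e | ⟨hp, hq⟩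
  · exact e
  exfalso
  have hpA := h.p_mem hy
  have hqB := h.q_mem hy
  obtain ⟨g, hg, hinto⟩ := exists_conj_into (h.le hpA) (fun a ha => h.z_central ha) (hA _ hpA hp)
  have hwS := hinto _ (h.le' hqB) (h.comm hpA hqB).symm
  set w := g * h.q y * g⁻¹ with hw
  have hw2 : w * w = 1 := by
    rw [hw, conj_mul, h.swap.dih.refl_sq hqB hq, mul_one, mul_inv_cancel]
  have hwc : IsConj w h.swap.z := (isConj_iff.2 ⟨g, rfl⟩ : IsConj (h.q y) w).symm.trans (hB _ hqB hq)
  have hyw : IsConj y (h.z * w) := isConj_iff.2 ⟨g, by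
    conv_lhs => rw [(h.decomp hy).2.2, ← conj_mul, hg]⟩
  rcases hcases h.swap hk' hk hB w hwS hw2 hwc with e | ⟨hwq, hwp⟩
  · have hwB : w ∈ h.B := h.swap.mem_A hwS e
    by_cases hwC : w ∈ h.swap.C
    · rcases h.swap.dih.rot_invol hwC hw2 with e' | e'
      · obtain ⟨a, ha⟩ := isConj_iff.1 hwc
        rw [e', mul_one, mul_inv_cancel] at ha
        exact h.swap.dih.z_ne ha.symm
      · rw [e'] at hyw
        exact hn2 (hyc.symm.trans hyw)
    · have h3 := h.swap.conj_mul_swap hk' hk hwS hwc (by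
        rw [show h.swap.q w = 1 from e]; exact one_mem _)
      rw [← h.z_central hwS] at hyw
      have h4 : h.swap.z * h.z = h.z * h.swap.z := h.z_central h.swap.z_mem_sylow
      exact hn2 (hyc.symm.trans (hyw.trans (h3.trans (h4 ▸ IsConj.refl _))))
  · have h3 : IsConj w (w * h.z) := h.conj_root hk hk' hwS hwp
    rw [← h.z_central hwS] at hyw
    exact hn1 (hyc.symm.trans (hyw.trans (h3.symm.trans hwc)))

include h2

theorem both_big : ∃ h' : Split S, 1 ≤ h'.k ∧ 1 ≤ h'.k' ∧ h'.Sep ∧ h'.swap.Sep := by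
  obtain ⟨t, ht⟩ := h.exists_twist_conj hk hk' h2
  obtain ⟨u, hu⟩ := t.split.swap.exists_twist_conj hk' hk h2
  have hz := t.z_eq hk
  have hA : ∀ v ∈ u.split.swap.A, v ∉ u.split.swap.C → IsConj v u.split.swap.z := fun v hv hn => by
    show IsConj v t.split.z
    rw [hz]; exact ht v hv hn
  have hB : ∀ v ∈ u.split.A, v ∉ u.split.C → IsConj v u.split.z := fun v hv hn => by
    rw [u.z_eq hk']; exact hu v hv hn
  exact ⟨u.split.swap, hk, hk', u.split.swap.sep_of_conj hk hk' hA hB, u.split.sep_of_conj hk' hk hB hA⟩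

end Split

end CfsgLib.ProductFusion
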