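import Cfsg.Agent.Lib.ProductFusion.Radical
import Mathlib.GroupTheory.Focal

/-!
An invariant homomorphism on a Sylow 2-subgroup gives a normal subgroup of index two.
-/

set_option autoImplicit false
set_option linter.unusedSectionVars false
set_option linter.style.haveILetI false

namespace CfsgLib.ProductFusion

open Subgroup Cfsg
open CfsgLib.Fusion (conjSub mem_conjSub conjSub_conjSub)
open CfsgLib.Techniques.AlperinGoldschmidtCore (good real)
open CfsgLib.Techniques.Functor (Fam)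
open scoped commutatorElement

theorem zmod_two : ∀ a : ZMod 2, a = 0 ∨ a = 1 := by decide

variable {G : Type*} [Group G] [Finite G] {S : Sylow 2 G}

/-- The homomorphism on `S` is respected by conjugation along a chain of normalizers. -/
theorem fam_invariant {χ : G → ZMod 2}
    (hstep : ∀ X ∈ good S, ∀ n ∈ normalizer (X : Set G), ∀ x ∈ X, χ (n * x * n⁻¹) = χ x) {A : Subgroup G}
    {g : G} (hf : Fam (good S) A g) : ∀ a ∈ A, χ (g⁻¹ * a * g) = χ a := by
  induction hf with
  | nil A => intro a _; simp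
  | @cons A T x g hT hA hx _ ih =>
    intro a ha
    have h1 : χ (g⁻¹ * (x⁻¹ * a * x) * g) = χ (x⁻¹ * a * x) := ih _ (by
      rw [mem_conjSub]; simpa [mul_assoc] using ha)
    have h2 := hstep T hT x⁻¹ (inv_mem hx) a (hA ha)
    rw [inv_inv] at h2
    rw [show (x * g)⁻¹ * a * (x * g) = g⁻¹ * (x⁻¹ * a * x) * g by group, h1, h2]

/-- The odd elements of the normalizers suffice. -/
theorem invariant_of_odd {χ : G → ZMod 2}
    (hadd : ∀ x ∈ (S : Subgroup G), ∀ y ∈ (S : Subgroup G), χ (x * y) = χ x + χ y) {X : Subgroup G}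
    (hX : X ∈ good S)
    (hodd : ∀ k ∈ normalizer (X : Set G), Odd (orderOf k) → ∀ x ∈ X, χ (k * x * k⁻¹) = χ x) :
    ∀ n ∈ normalizer (X : Set G), ∀ x ∈ X, χ (n * x * n⁻¹) = χ x := by
  let L : Subgroup G :=
    { carrier := {n | n ∈ normalizer (X : Set G) ∧ ∀ x ∈ X, χ (n * x * n⁻¹) = χ x}
      one_mem' := ⟨one_mem _, fun x _ => by simp⟩
      mul_mem' := fun {a b} ha hb => ⟨mul_mem ha.1 hb.1, fun x hx => by
        rw [show a * b * x * (a * b)⁻¹ = a * (b * x * b⁻¹) * a⁻¹ by group,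
          ha.2 _ (mem_normalizer_conj hb.1 hx), hb.2 x hx]⟩
      inv_mem' := fun {a} ha => ⟨inv_mem ha.1, fun x hx => by
        have := ha.2 _ (mem_normalizer_conj (inv_mem ha.1) hx)
        rw [show a * (a⁻¹ * x * a⁻¹⁻¹) * a⁻¹ = x by group] at this
        exact this.symm⟩ }
  have hle : normalizer (X : Set G) ≤ L := normalizer_le_of hX L (fun k hk ho => ⟨hk, hodd k hk ho⟩) (by
    rintro s ⟨hs, hsN⟩
    refine ⟨hsN, fun x hx => ?_⟩
    have hxS := good_le hX hx
    have h1 : χ (1 : G) = 0 := by simpa using hadd 1 (one_mem _) 1 (one_mem _)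
    have h2 := hadd s hs s⁻¹ (inv_mem hs)
    rw [mul_inv_cancel, h1] at h2
    rw [hadd _ (mul_mem hs hxS) _ (inv_mem hs), hadd _ hs _ hxS, add_right_comm, ← h2, zero_add])
  exact fun n hn => (hle hn).2

/-- A nonzero invariant homomorphism contradicts the absence of normal subgroups of index two. -/
theorem invariant_false (h2 : ∀ N : Subgroup G, N.Normal → N.index ≠ 2) (χ : G → ZMod 2)
    (hadd : ∀ x ∈ (S : Subgroup G), ∀ y ∈ (S : Subgroup G), χ (x * y) = χ x + χ y)
    (hodd : ∀ X ∈ good S, ∀ k ∈ normalizer (X : Set G), Odd (orderOf k) → ∀ x ∈ X, χ (k * x * k⁻¹) = χ x)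
    {x₀ : G} (hx₀ : x₀ ∈ (S : Subgroup G)) (hne : χ x₀ ≠ 0) : False := by
  haveI : Fact (Nat.Prime 2) := ⟨Nat.prime_two⟩
  have hstep := fun X hX => invariant_of_odd hadd hX (hodd X hX)
  have hfus : ∀ x ∈ (S : Subgroup G), ∀ g : G, g * x * g⁻¹ ∈ (S : Subgroup G) → χ (g * x * g⁻¹) = χ x := by
    intro x hx g hg
    obtain ⟨c, hc, hf⟩ := real S (zpowers x) (zpowers_le.2 hx) g⁻¹ (by
      rw [inv_inv]
      intro y hy
      rw [mem_conjSub] at hy
      obtain ⟨i, hi⟩ := mem_zpowers_iff.1 hy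
      have := zpow_mem hg i
      rw [conj_zpow, hi] at this
      simpa [mul_assoc] using this)
    have := fam_invariant hstep hf x (mem_zpowers x)
    rw [mem_centralizer_iff] at hc
    rwa [show (c⁻¹ * g⁻¹)⁻¹ * x * (c⁻¹ * g⁻¹) = g * (c * x) * c⁻¹ * g⁻¹ by group,
      ← hc x (mem_zpowers x), show g * (x * c) * c⁻¹ * g⁻¹ = g * x * g⁻¹ by group] at this
  let ψ : ↥(S : Subgroup G) →* Multiplicative (ZMod 2) :=
    MonoidHom.mk' (fun x => Multiplicative.ofAdd (χ x)) fun x y => by
      rw [← ofAdd_add, Subgroup.coe_mul, hadd x x.2 y y.2]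
  have hker : (S : Subgroup G).focalSubgroupOf ≤ ψ.ker := by
    rw [focalSubgroupOf_eq_closure, closure_le]
    rintro g ⟨x, hx, u, hgu⟩
    have hgS := g.2
    rw [hgu] at hgS
    have hxi : u * x⁻¹ * u⁻¹ ∈ (S : Subgroup G) := by
      have := mul_mem (inv_mem hx) hgS
      rwa [commutatorElement_def, show x⁻¹ * (x * u * x⁻¹ * u⁻¹) = u * x⁻¹ * u⁻¹ by group] at this
    show Multiplicative.ofAdd (χ g) = 1
    rw [← ofAdd_zero, hgu, commutatorElement_def,
      show x * u * x⁻¹ * u⁻¹ = x * (u * x⁻¹ * u⁻¹) by group, hadd x hx _ hxi, hfus _ (inv_mem hx) u hxi,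
      ← hadd x hx _ (inv_mem hx), mul_inv_cancel]
    congr 1
    simpa using hadd 1 (one_mem _) 1 (one_mem _)
  let θ : G →* Multiplicative (ZMod 2) :=
    (QuotientGroup.lift (S : Subgroup G).focalSubgroupOf ψ hker).comp (transferFocal (S : Subgroup G))
  have hψ : Function.Surjective ψ := fun m => by
    have htwo := zmod_two
    have hv : χ x₀ = 1 := (htwo _).resolve_left hne
    obtain ⟨a, rfl⟩ := Multiplicative.ofAdd.surjective m
    rcases htwo a with rfl | rfl
    · exact ⟨1, by simp⟩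
    · exact ⟨⟨x₀, hx₀⟩, by simp [ψ, hv]⟩
  have hθ : Function.Surjective θ :=
    (QuotientGroup.lift_surjective_of_surjective _ _ hψ hker).comp (transferFocal_surjective S)
  refine h2 θ.ker inferInstance ?_
  rw [index_ker, MonoidHom.range_eq_top.2 hθ, card_top, Nat.card_eq_fintype_card]
  rfl

end CfsgLib.ProductFusion
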