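import Cfsg.Agent.Lib.ProductFusion.Good
import Cfsg.Agent.Lib.ProductFusion.Index

/-!
The conjugacy of the central involutions.
-/

set_option autoImplicit false
set_option linter.unusedSectionVars false
set_option linter.style.haveILetI false

namespace CfsgLib.ProductFusion

open Subgroup Cfsg
open CfsgLib.Techniques.AlperinGoldschmidtCore (good self_mem_good)

variable {G : Type*} [Group G] [Finite G] {S : Sylow 2 G}

/-- Conjugation of central elements of a Sylow subgroup takes place in its normalizer. -/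
theorem exists_normalizer_conj {a b : G} (haS : ∀ x ∈ (S : Subgroup G), x * a = a * x)
    (hbS : ∀ x ∈ (S : Subgroup G), x * b = b * x) (hab : IsConj a b) :
    ∃ n ∈ normalizer ((S : Subgroup G) : Set G), n * a * n⁻¹ = b := by
  haveI : Fact (Nat.Prime 2) := ⟨Nat.prime_two⟩
  obtain ⟨g, rfl⟩ := isConj_iff.1 hab
  obtain ⟨n, hn, e⟩ := S.conj_eq_normalizer_conj_of_mem_centralizer a g⁻¹ (mem_centralizer_iff.2 haS)
    (mem_centralizer_iff.2 fun x hx => by rw [inv_inv]; exact hbS x hx)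
  refine ⟨n⁻¹, inv_mem hn, ?_⟩
  rw [inv_inv] at e ⊢
  exact e.symm

/-- A conjugation to a central element carrying the centralizer into the Sylow subgroup. -/
theorem exists_conj_into {x a : G} (hx : x ∈ (S : Subgroup G)) (haS : ∀ y ∈ (S : Subgroup G), y * a = a * y)
    (hxa : IsConj x a) :
    ∃ g, g * x * g⁻¹ = a ∧ ∀ y ∈ (S : Subgroup G), y * x = x * y → g * y * g⁻¹ ∈ (S : Subgroup G) := by
  haveI : Fact (Nat.Prime 2) := ⟨Nat.prime_two⟩
  obtain ⟨g, hg⟩ := isConj_iff.1 hxa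
  set T := ((S : Subgroup G) ⊓ centralizer ({x} : Set G)).map (MulAut.conj g).toMonoidHom with hT
  obtain ⟨c, hc, hcT⟩ := Transfer.exists_conj_mem_sylow_of_le S (H := centralizer ({a} : Set G)) (S := T)
    (fun y hy => mem_centralizer_singleton_iff.2 (haS y hy)) (by
      rintro _ ⟨y, hy, rfl⟩
      refine mem_centralizer_singleton_iff.2 ?_
      have h1 := mem_centralizer_singleton_iff.1 hy.2
      simp only [MulEquiv.coe_toMonoidHom, MulAut.conj_apply]
      rw [← hg]
      calc g * y * g⁻¹ * (g * x * g⁻¹) = g * (y * x) * g⁻¹ := by group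
        _ = g * (x * y) * g⁻¹ := by rw [h1]
        _ = g * x * g⁻¹ * (g * y * g⁻¹) := by group)
    ((S.2.to_le inf_le_left).map _)
  refine ⟨c * g, ?_, fun y hy hyx => ?_⟩
  · rw [show c * g * x * (c * g)⁻¹ = c * (g * x * g⁻¹) * c⁻¹ by group, hg,
      mem_centralizer_singleton_iff.1 hc, mul_inv_cancel_right]
  · rw [show c * g * y * (c * g)⁻¹ = c * (g * y * g⁻¹) * c⁻¹ by group]
    exact hcT _ ⟨y, ⟨hy, mem_centralizer_singleton_iff.2 hyx⟩, rfl⟩

namespace Split

variable (h : Split S)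

/-- The square root of `z` in the rotations. -/
abbrev root : G := h.r ^ 2 ^ (h.k - 1)

theorem root_mem : h.root ∈ h.C := pow_mem (mem_zpowers h.r) _

theorem root_sq (hk : 1 ≤ h.k) : h.root * h.root = h.z := h.dih.exists_root hk

theorem root_mem_sylow : h.root ∈ (S : Subgroup G) := h.le (h.C_le h.root_mem)

theorem root_refl (hk : 1 ≤ h.k) {v : G} (hv : v ∈ h.A) (hn : v ∉ h.C) :
    h.root * v * h.root⁻¹ = v * h.z := by
  rw [h.dih.refl_conj_of_sq hv hn h.root_mem, ← mul_inv_rev, h.root_sq hk, h.dih.z_inv]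

theorem q_sq_of_zero (hk' : h.k' = 0) {x : G} (hx : x ∈ (S : Subgroup G)) : h.q (x * x) = 1 := by
  rw [h.q_hom hx hx]
  by_cases hc : h.q x ∈ h.swap.C
  · obtain ⟨i, hi⟩ := mem_zpowers_iff.1 hc
    have hr : h.r' * h.r' = 1 := by
      have := h.dih'.z_sq
      rwa [hk', pow_zero, pow_one] at this
    rw [← hi, ← ((Commute.refl h.r').mul_zpow i), hr, one_zpow]
  · exact h.swap.dih.refl_sq (h.q_mem hx) hc

/-- The involutions which are squares. -/
theorem sq_invol_cases {u : G} (hu : u ∈ (S : Subgroup G)) (h1 : u * u ≠ 1) (h2 : u * u * (u * u) = 1) :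
    (u * u = h.z ∨ u * u = h.swap.z ∨ u * u = h.z * h.swap.z) ∧ (h.k' = 0 → u * u = h.z) := by
  have hS := mul_mem hu hu
  refine ⟨h.invol_rot_cases hS h2 h1 (h.sq_rot hu) (h.swap.sq_rot hu), fun hk' => ?_⟩
  have hq := h.q_sq_of_zero hk' hu
  have e := h.mem_A hS hq
  have hc := h.sq_rot hu
  rw [h.p_self e] at hc
  exact (h.dih.rot_invol hc h2).resolve_left h1

theorem z_ne_swap_z : h.z ≠ h.swap.z := fun e => by
  have := h.eq_one h.z_mem (e ▸ h.swap.z_mem)
  exact h.dih.z_ne this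

theorem z_mul_swap_ne : h.z * h.swap.z ≠ h.z ∧ h.z * h.swap.z ≠ h.swap.z :=
  ⟨fun e => h.swap.dih.z_ne (mul_eq_left.1 e), fun e => h.dih.z_ne (mul_eq_right.1 e)⟩

theorem fix_z_odd (hk : 1 ≤ h.k) {n : G} (hn : n ∈ normalizer ((S : Subgroup G) : Set G))
    (hodd : Odd (orderOf n)) : n * h.z * n⁻¹ = h.z := by
  have hw := h.root_mem_sylow
  have hu : n * h.root * n⁻¹ ∈ (S : Subgroup G) := mem_normalizer_conj hn hw
  have e : n * h.root * n⁻¹ * (n * h.root * n⁻¹) = n * h.z * n⁻¹ := by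
    rw [show n * h.root * n⁻¹ * (n * h.root * n⁻¹) = n * (h.root * h.root) * n⁻¹ by group, h.root_sq hk]
  have hne : n * h.z * n⁻¹ ≠ 1 := fun hh => h.dih.z_ne (conj_eq_one_iff.1 hh)
  have hsq : n * h.z * n⁻¹ * (n * h.z * n⁻¹) = 1 := by
    rw [show n * h.z * n⁻¹ * (n * h.z * n⁻¹) = n * (h.z * h.z) * n⁻¹ by group, h.dih.z_sq, mul_one,
      mul_inv_cancel]
  obtain ⟨hcases, hzero⟩ := h.sq_invol_cases hu (e ▸ hne) (e ▸ hsq)
  rcases Nat.eq_zero_or_pos h.k' with h0 | hk'
  · rw [← e]; exact hzero h0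
  -- all roots of `z * z'` commute, unlike those of `z` and of `z'`
  have hcomm : ∀ a ∈ (S : Subgroup G), ∀ b ∈ (S : Subgroup G), a * a = h.z * h.swap.z →
      b * b = h.z * h.swap.z → a * b = b * a := by
    intro a ha b hb ea eb
    have hp : ∀ y ∈ (S : Subgroup G), y * y = h.z * h.swap.z → h.p y ∈ h.C ∧ h.q y ∈ h.swap.C := by
      intro y hy ey
      refine ⟨by_contra fun hc => h.dih.z_ne ?_, by_contra fun hc => h.swap.dih.z_ne ?_⟩
      · have := h.dih.refl_sq (h.p_mem hy) hc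
        rwa [← h.p_hom hy hy, ey, h.p_mul h.z_mem h.swap.z_mem] at this
      · have := h.swap.dih.refl_sq (h.q_mem hy) hc
        rwa [← h.q_hom hy hy, ey, h.q_mul h.z_mem h.swap.z_mem] at this
    exact h.commutes ha hb (h.dih.rot_comm (hp a ha ea).1 (hp b hb eb).1)
      (h.swap.dih.rot_comm (hp a ha ea).2 (hp b hb eb).2)
  have hnot : ∀ h' : Split S, 1 ≤ h'.k → 1 ≤ h'.k' → ∀ m ∈ normalizer ((S : Subgroup G) : Set G),
      m * h'.z * m⁻¹ = h.z * h.swap.z → False := by
    intro h' hh hh' m hm em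
    have hs := h'.dih'.s_mem
    have hsr : h'.s' * h'.r' ∈ h'.B := mul_mem hs h'.dih'.r_mem
    have hroots : ∀ t ∈ h'.B, t * t = 1 → m * (h'.root * t) * m⁻¹ ∈ (S : Subgroup G) ∧
        m * (h'.root * t) * m⁻¹ * (m * (h'.root * t) * m⁻¹) = h.z * h.swap.z := by
      intro t ht t2
      refine ⟨mem_normalizer_conj hm (mul_mem h'.root_mem_sylow (h'.le' ht)), ?_⟩
      rw [← em, ← h'.root_sq hh]
      have hc := h'.comm (h'.C_le h'.root_mem) ht
      calc m * (h'.root * t) * m⁻¹ * (m * (h'.root * t) * m⁻¹)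
          = m * (h'.root * (t * h'.root) * t) * m⁻¹ := by group
        _ = m * (h'.root * h'.root) * m⁻¹ := by
          rw [← hc, show h'.root * (h'.root * t) * t = h'.root * h'.root * (t * t) by group, t2, mul_one]
    have t2 : h'.s' * h'.r' * (h'.s' * h'.r') = 1 :=
      h'.dih'.refl_sq hsr (h'.dih'.not_mem_refl (mem_zpowers _))
    obtain ⟨a1, a2⟩ := hroots _ hs h'.dih'.s_sq
    obtain ⟨b1, b2⟩ := hroots _ hsr t2
    have hc := hcomm _ a1 _ b1 a2 b2
    have hc' : h'.root * h'.s' * (h'.root * (h'.s' * h'.r')) =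
        h'.root * (h'.s' * h'.r') * (h'.root * h'.s') :=
      conj_injective (k := m) (conj_mul.symm.trans (hc.trans conj_mul))
    have hq := congrArg h'.q hc'
    have hrS := h'.root_mem_sylow
    have hwA := h'.C_le h'.root_mem
    rw [h'.q_hom (mul_mem hrS (h'.le' hs)) (mul_mem hrS (h'.le' hsr)),
      h'.q_hom (mul_mem hrS (h'.le' hsr)) (mul_mem hrS (h'.le' hs)), h'.q_mul hwA hs, h'.q_mul hwA hsr,
      ← mul_assoc, h'.dih'.s_sq, one_mul, mul_assoc] at hq
    have h3 : h'.r' = h'.r'⁻¹ := by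
      rw [← h'.dih'.inv, h'.dih'.s_inv, mul_assoc, ← hq]
    have h4 : h'.r' ^ 2 = 1 := by rw [pow_two]; nth_rewrite 2 [h3]; rw [mul_inv_cancel]
    have h5 : 2 ^ (h'.k' + 1) ∣ 2 := h'.dih'.order_r ▸ orderOf_dvd_of_pow_eq_one h4
    have h6 := (Nat.pow_dvd_pow_iff_le_right (x := 2) (by norm_num)).1 (h5.trans (pow_one 2).symm.dvd)
    omega
  rcases (e ▸ hcases) with e1 | e1 | e1
  · exact e1
  · exfalso
    -- the image of `z'` is then forced to be `z`
    have hu2 : n * h.swap.root * n⁻¹ ∈ (S : Subgroup G) := mem_normalizer_conj hn h.swap.root_mem_sylow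
    have e' : n * h.swap.root * n⁻¹ * (n * h.swap.root * n⁻¹) = n * h.swap.z * n⁻¹ := by
      rw [show n * h.swap.root * n⁻¹ * (n * h.swap.root * n⁻¹) = n * (h.swap.root * h.swap.root) * n⁻¹ by
        group, h.swap.root_sq hk']
    have hne' : n * h.swap.z * n⁻¹ ≠ 1 := fun hh => h.swap.dih.z_ne (conj_eq_one_iff.1 hh)
    have hsq' : n * h.swap.z * n⁻¹ * (n * h.swap.z * n⁻¹) = 1 := by
      rw [show n * h.swap.z * n⁻¹ * (n * h.swap.z * n⁻¹) = n * (h.swap.z * h.swap.z) * n⁻¹ by group,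
        h.swap.dih.z_sq, mul_one, mul_inv_cancel]
    rcases (e' ▸ (h.sq_invol_cases hu2 (e' ▸ hne') (e' ▸ hsq')).1) with e2 | e2 | e2
    · exact h.z_ne_swap_z (eq_of_odd_swap hodd e1 e2)
    · exact h.z_ne_swap_z (conj_injective (e1.trans e2.symm))
    · exact hnot h.swap hk' hk n hn e2
  · exact (hnot h hk hk' n hn e1).elim

theorem fix_z (hk : 1 ≤ h.k) {n : G} (hn : n ∈ normalizer ((S : Subgroup G) : Set G)) :
    n * h.z * n⁻¹ = h.z := by
  haveI : Fact (Nat.Prime 2) := ⟨Nat.prime_two⟩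
  have hle : normalizer ((S : Subgroup G) : Set G) ≤ centralizer ({h.z} : Set G) :=
    normalizer_le_of (self_mem_good S) _ (fun m hm ho => mem_centralizer_singleton_iff.2 (by
      conv_rhs => rw [← h.fix_z_odd hk hm ho]
      group)) fun s hs => mem_centralizer_singleton_iff.2 (h.z_central hs.1)
  rw [mem_centralizer_singleton_iff.1 (hle hn), mul_inv_cancel_right]

theorem conj_z_central (hk : 1 ≤ h.k) {y : G} (hy : ∀ x ∈ (S : Subgroup G), x * y = y * x)
    (hc : IsConj h.z y) : y = h.z := by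
  obtain ⟨n, hn, rfl⟩ := exists_normalizer_conj (fun x hx => h.z_central hx) hy hc
  exact h.fix_z hk hn

theorem swap_z_central {x : G} (hx : x ∈ (S : Subgroup G)) : x * h.swap.z = h.swap.z * x :=
  h.swap.z_central hx

theorem zz_central {x : G} (hx : x ∈ (S : Subgroup G)) :
    x * (h.z * h.swap.z) = h.z * h.swap.z * x := by
  rw [← mul_assoc, h.z_central hx, mul_assoc, h.swap_z_central hx, mul_assoc]

/-- The involutory squares are pairwise non-conjugate. -/
theorem sq_conj_eq (hk : 1 ≤ h.k) {u v : G} (hu : u ∈ (S : Subgroup G)) (hu1 : u * u ≠ 1)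
    (hu2 : u * u * (u * u) = 1) (hv : v ∈ (S : Subgroup G)) (hc : IsConj (u * u) (v * v)) :
    u * u = v * v := by
  obtain ⟨g, hg⟩ := isConj_iff.1 hc
  have hv1 : v * v ≠ 1 := by rw [← hg]; exact fun hh => hu1 (conj_eq_one_iff.1 hh)
  have hv2 : v * v * (v * v) = 1 := by
    rw [← hg, show g * (u * u) * g⁻¹ * (g * (u * u) * g⁻¹) = g * (u * u * (u * u)) * g⁻¹ by group, hu2,
      mul_one, mul_inv_cancel]
  obtain ⟨cu, zu⟩ := h.sq_invol_cases hu hu1 hu2
  obtain ⟨cv, zv⟩ := h.sq_invol_cases hv hv1 hv2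
  rcases Nat.eq_zero_or_pos h.k' with h0 | hk'
  · rw [zu h0, zv h0]
  have hcen : ∀ w : G, (w = h.z ∨ w = h.swap.z ∨ w = h.z * h.swap.z) →
      ∀ x ∈ (S : Subgroup G), x * w = w * x := by
    rintro w (rfl | rfl | rfl) x hx
    exacts [h.z_central hx, h.swap_z_central hx, h.zz_central hx]
  obtain ⟨n, hn, e⟩ := exists_normalizer_conj (hcen _ cu) (hcen _ cv) hc
  have hfix : n * (u * u) * n⁻¹ = u * u := by
    rcases cu with e1 | e1 | e1 <;> rw [e1]
    · exact h.fix_z hk hn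
    · exact h.swap.fix_z hk' hn
    · exact conj_mul.symm.trans (by rw [h.fix_z hk hn, h.swap.fix_z hk' hn])
  rw [← e, hfix]

/-- The central involutions of a product with two nonabelian factors are not conjugate. -/
theorem z_not_conj (hk : 1 ≤ h.k) (hk' : 1 ≤ h.k') :
    ¬ IsConj h.z h.swap.z ∧ ¬ IsConj h.z (h.z * h.swap.z) ∧ ¬ IsConj h.swap.z (h.z * h.swap.z) :=
  ⟨fun hc => h.z_ne_swap_z (h.conj_z_central hk (fun _ hx => h.swap_z_central hx) hc).symm,
    fun hc => h.z_mul_swap_ne.1 (h.conj_z_central hk (fun _ hx => h.zz_central hx) hc),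
    fun hc => h.z_mul_swap_ne.2 (h.swap.conj_z_central hk' (fun _ hx => h.zz_central hx) hc)⟩

end Split

end CfsgLib.ProductFusion
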