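import Mathlib

/-!
Dihedral subgroups given by a rotation and a reflection.
-/

set_option autoImplicit false
set_option linter.unusedSectionVars false

namespace CfsgLib.ProductFusion

open Subgroup

variable {G : Type*} [Group G]

/-- `D` is dihedral with rotation `r` of order `2 ^ (k + 1)` and reflection `s`. -/
structure Dih (D : Subgroup G) (r s : G) (k : ℕ) : Prop where
  order_r : orderOf r = 2 ^ (k + 1)
  r_mem : r ∈ D
  s_mem : s ∈ D
  s_not : s ∉ zpowers r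
  s_sq : s * s = 1
  inv : s * r * s⁻¹ = r⁻¹
  cover : ∀ x ∈ D, x ∈ zpowers r ∨ s * x ∈ zpowers r

namespace Dih

variable {D : Subgroup G} {r s : G} {k : ℕ} (h : Dih D r s k)
include h

theorem zpowers_le' : zpowers r ≤ D := zpowers_le.2 h.r_mem

theorem s_inv : s⁻¹ = s := inv_eq_of_mul_eq_one_right h.s_sq

theorem rot_comm {a b : G} (ha : a ∈ zpowers r) (hb : b ∈ zpowers r) : a * b = b * a := by
  obtain ⟨i, rfl⟩ := mem_zpowers_iff.1 ha
  obtain ⟨j, rfl⟩ := mem_zpowers_iff.1 hb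
  exact ((Commute.refl r).zpow_zpow i j).eq

theorem s_conj_rot {c : G} (hc : c ∈ zpowers r) : s * c * s⁻¹ = c⁻¹ := by
  obtain ⟨i, rfl⟩ := mem_zpowers_iff.1 hc
  rw [← conj_zpow, h.inv, inv_zpow]

theorem s_mul_rot {c : G} (hc : c ∈ zpowers r) : s * c = c⁻¹ * s := by
  rw [← h.s_conj_rot hc, inv_mul_cancel_right]

theorem exists_refl {x : G} (hx : x ∈ D) (hn : x ∉ zpowers r) : ∃ c ∈ zpowers r, x = s * c := by
  rcases h.cover x hx with hx' | hx'
  · exact absurd hx' hn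
  · exact ⟨_, hx', by rw [← mul_assoc, h.s_sq, one_mul]⟩

theorem not_mem_refl {c : G} (hc : c ∈ zpowers r) : s * c ∉ zpowers r := fun hn =>
  h.s_not (by simpa using mul_mem hn (inv_mem hc))

theorem refl_sq {x : G} (hx : x ∈ D) (hn : x ∉ zpowers r) : x * x = 1 := by
  obtain ⟨c, hc, rfl⟩ := h.exists_refl hx hn
  calc s * c * (s * c) = (s * c * s⁻¹) * c := by rw [h.s_inv]; group
    _ = 1 := by rw [h.s_conj_rot hc, inv_mul_cancel]

theorem refl_inv' {x : G} (hx : x ∈ D) (hn : x ∉ zpowers r) : x⁻¹ = x :=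
  inv_eq_of_mul_eq_one_right (h.refl_sq hx hn)

theorem refl_conj {x : G} (hx : x ∈ D) (hn : x ∉ zpowers r) {c : G} (hc : c ∈ zpowers r) :
    x * c * x⁻¹ = c⁻¹ := by
  obtain ⟨d, hd, rfl⟩ := h.exists_refl hx hn
  rw [show s * d * c * (s * d)⁻¹ = s * (d * c * d⁻¹) * s⁻¹ by group, h.rot_comm hd hc, mul_inv_cancel_right,
    h.s_conj_rot hc]

theorem refl_mul {x y : G} (hx : x ∈ D) (hn : x ∉ zpowers r) (hy : y ∈ D) (hm : y ∉ zpowers r) :
    x * y ∈ zpowers r := by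
  obtain ⟨c, hc, rfl⟩ := h.exists_refl hx hn
  obtain ⟨d, hd, rfl⟩ := h.exists_refl hy hm
  rw [show s * c * (s * d) = (s * c * s⁻¹) * (s * s) * d by group, h.s_conj_rot hc, h.s_sq, mul_one]
  exact mul_mem (inv_mem hc) hd

theorem sq_mem {x : G} (hx : x ∈ D) : x * x ∈ zpowers r := by
  by_cases hn : x ∈ zpowers r
  · exact mul_mem hn hn
  · rw [h.refl_sq hx hn]; exact one_mem _

theorem z_sq : r ^ 2 ^ k * r ^ 2 ^ k = 1 := by
  rw [← pow_add, ← two_mul, ← pow_succ', ← h.order_r, pow_orderOf_eq_one]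

theorem z_ne : r ^ 2 ^ k ≠ 1 := fun e => by
  have h1 : 2 ^ (k + 1) ∣ 2 ^ k := h.order_r ▸ orderOf_dvd_of_pow_eq_one e
  have h2 := (Nat.pow_dvd_pow_iff_le_right (x := 2) (by norm_num)).1 h1
  omega

theorem z_mem_zpowers : r ^ 2 ^ k ∈ zpowers r := pow_mem (mem_zpowers r) _

theorem z_mem : r ^ 2 ^ k ∈ D := pow_mem h.r_mem _

theorem z_order : orderOf (r ^ 2 ^ k) = 2 := orderOf_eq_prime (by rw [pow_two, h.z_sq]) h.z_ne

theorem z_inv : (r ^ 2 ^ k)⁻¹ = r ^ 2 ^ k := inv_eq_of_mul_eq_one_right h.z_sq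

theorem rot_invol {c : G} (hc : c ∈ zpowers r) (h2 : c * c = 1) : c = 1 ∨ c = r ^ 2 ^ k := by
  have hf : IsOfFinOrder r := orderOf_pos_iff.1 (by rw [h.order_r]; positivity)
  obtain ⟨n, rfl⟩ : ∃ n : ℕ, r ^ n = c := (Submonoid.mem_powers_iff _ _).1 (hf.mem_powers_iff_mem_zpowers.2 hc)
  rw [← pow_mod_orderOf] at h2 ⊢
  set i := n % orderOf r with hi
  have hlt : i < 2 ^ (k + 1) := h.order_r ▸ Nat.mod_lt _ hf.orderOf_pos
  rw [← pow_add] at h2
  obtain ⟨j, hj⟩ : 2 ^ (k + 1) ∣ i + i := h.order_r ▸ orderOf_dvd_of_pow_eq_one h2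
  rw [pow_succ] at hj hlt
  have hpos : 0 < 2 ^ k := by positivity
  have hj2 : j < 2 := by
    by_contra hc'
    have : 2 ^ k * 2 * 2 ≤ 2 ^ k * 2 * j := Nat.mul_le_mul_left _ (by omega)
    omega
  rcases Nat.lt_succ_iff.1 hj2 |> Nat.le_one_iff_eq_zero_or_eq_one.1 with rfl | rfl
  · exact Or.inl (by rw [show i = 0 by omega, pow_zero])
  · exact Or.inr (by rw [show i = 2 ^ k by omega])

theorem z_comm {x : G} (hx : x ∈ D) : x * r ^ 2 ^ k = r ^ 2 ^ k * x := by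
  by_cases hn : x ∈ zpowers r
  · exact h.rot_comm hn h.z_mem_zpowers
  · have := h.refl_conj hx hn h.z_mem_zpowers
    rwa [h.z_inv, mul_inv_eq_iff_eq_mul] at this

theorem z_unique_sq {x : G} (hx : x ∈ D) (h1 : x * x ≠ 1) (h2 : x * x * (x * x) = 1) :
    x * x = r ^ 2 ^ k := (h.rot_invol (h.sq_mem hx) h2).resolve_left h1

/-- The centralizer of a reflection. -/
theorem comm_refl {x v : G} (hx : x ∈ D) (hv : v ∈ D) (hn : v ∉ zpowers r) (hc : x * v = v * x) :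
    x = 1 ∨ x = r ^ 2 ^ k ∨ x = v ∨ x = r ^ 2 ^ k * v := by
  have key : ∀ c ∈ zpowers r, c * v = v * c → c = 1 ∨ c = r ^ 2 ^ k := fun c hc hcv => h.rot_invol hc (by
    have := h.refl_conj hv hn hc
    rw [← hcv, mul_inv_cancel_right] at this
    nth_rewrite 1 [this]
    exact inv_mul_cancel c)
  by_cases hxn : x ∈ zpowers r
  · rcases key x hxn hc with e | e
    · exact Or.inl e
    · exact Or.inr (Or.inl e)
  · rcases key (x * v) (h.refl_mul hx hxn hv hn) (by rw [mul_assoc, ← mul_assoc v, ← hc, mul_assoc]) with e | e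
    · exact Or.inr (Or.inr (Or.inl (by rw [mul_eq_one_iff_eq_inv.1 e, h.refl_inv' hv hn])))
    · refine Or.inr (Or.inr (Or.inr ?_))
      rw [← e, mul_assoc, h.refl_sq hv hn, mul_one]

/-- Commutators of two elements are squares of rotations in the subgroup they generate. -/
theorem comm_cases {x y : G} (hx : x ∈ D) (hy : y ∈ D) :
    x * y * x⁻¹ * y⁻¹ = 1 ∨ (y ∈ zpowers r ∧ x * y * x⁻¹ * y⁻¹ = (y * y)⁻¹) ∨
      (x ∈ zpowers r ∧ x * y * x⁻¹ * y⁻¹ = x * x) ∨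
      (x * y ∈ zpowers r ∧ x * y * x⁻¹ * y⁻¹ = x * y * (x * y)) := by
  by_cases hxn : x ∈ zpowers r <;> by_cases hyn : y ∈ zpowers r
  · exact Or.inl (by rw [h.rot_comm hxn hyn]; group)
  · refine Or.inr (Or.inr (Or.inl ⟨hxn, ?_⟩))
    rw [show x * y * x⁻¹ * y⁻¹ = x * (y * x⁻¹ * y⁻¹) by group, h.refl_conj hy hyn (inv_mem hxn), inv_inv]
  · refine Or.inr (Or.inl ⟨hyn, ?_⟩)
    rw [h.refl_conj hx hxn hyn]; group
  · refine Or.inr (Or.inr (Or.inr ⟨h.refl_mul hx hxn hy hyn, ?_⟩))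
    rw [h.refl_inv' hx hxn, h.refl_inv' hy hyn]
    group

theorem isMulCommutative_of_zero (hk : k = 0) {x y : G} (hx : x ∈ D) (hy : y ∈ D) : x * y = y * x := by
  have hsq : ∀ c ∈ zpowers r, c * c = 1 := fun c hc => by
    obtain ⟨i, rfl⟩ := mem_zpowers_iff.1 hc
    have := h.z_sq
    rw [hk, pow_zero, pow_one] at this
    rw [← ((Commute.refl r).mul_zpow i), this, one_zpow]
  rw [← mul_inv_eq_one, mul_inv_rev, ← mul_assoc]
  rcases h.comm_cases hx hy with e | ⟨hc, e⟩ | ⟨hc, e⟩ | ⟨hc, e⟩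
  · exact e
  · rw [e, hsq y hc, inv_one]
  · rw [e, hsq x hc]
  · rw [e, hsq _ hc]

/-- Every rotation which is not an involution has `z` among the squares of its powers. -/
theorem exists_sq_eq_z {c : G} (hc : c ∈ zpowers r) (h1 : c * c ≠ 1) :
    ∃ y ∈ zpowers c, y * y = r ^ 2 ^ k := by
  suffices H : ∀ n : ℕ, ∀ c ∈ zpowers r, c ^ 2 ^ n = 1 → c * c ≠ 1 → ∃ y ∈ zpowers c, y * y = r ^ 2 ^ k by
    obtain ⟨j, hj⟩ := mem_zpowers_iff.1 hc
    refine H (k + 1) c hc ?_ h1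
    rw [← hj, ← zpow_natCast, zpow_comm, zpow_natCast, ← h.order_r, pow_orderOf_eq_one, one_zpow]
  intro n
  induction n with
  | zero => intro c _ e h2; rw [pow_zero, pow_one] at e; simp [e] at h2
  | succ n ih =>
    intro c hc e h2
    by_cases h4 : c * c * (c * c) = 1
    · exact ⟨c, mem_zpowers c, (h.rot_invol (mul_mem hc hc) h4).resolve_left h2⟩
    · obtain ⟨y, hy, hy2⟩ := ih (c * c) (mul_mem hc hc) (by rwa [← pow_two, ← pow_mul, ← pow_succ']) h4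
      exact ⟨y, zpowers_le.2 (mul_mem (mem_zpowers c) (mem_zpowers c)) hy, hy2⟩

theorem exists_root (hk : 1 ≤ k) : r ^ 2 ^ (k - 1) * r ^ 2 ^ (k - 1) = r ^ 2 ^ k := by
  rw [← pow_add, ← two_mul, ← pow_succ', Nat.sub_add_cancel hk]

/-- Reflections differing by a square of a rotation are conjugate. -/
theorem refl_conj_of_sq {v c : G} (hv : v ∈ D) (hn : v ∉ zpowers r) (hc : c ∈ zpowers r) :
    c * v * c⁻¹ = v * (c⁻¹ * c⁻¹) := by
  have h1 := h.refl_conj hv hn (inv_mem hc)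
  rw [inv_inv] at h1
  calc c * v * c⁻¹ = (v * c⁻¹ * v⁻¹) * v * c⁻¹ := by rw [h1]
    _ = v * (c⁻¹ * c⁻¹) := by group

/-- The class of a rotation exponent modulo 2 is well defined. -/
theorem parity {i j : ℤ} (e : r ^ i = r ^ j) : (i : ZMod 2) = (j : ZMod 2) := by
  rw [zpow_eq_zpow_iff_modEq, h.order_r] at e
  rw [ZMod.intCast_eq_intCast_iff]
  exact Int.ModEq.of_dvd (by exact_mod_cast dvd_pow_self 2 (Nat.succ_ne_zero k)) e

/-- A homomorphism to `ZMod 2` with prescribed values on the two reflection classes. -/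
theorem exists_hom (εa εb : ZMod 2) :
    ∃ φ : G → ZMod 2, (∀ x ∈ D, ∀ y ∈ D, φ (x * y) = φ x + φ y) ∧ φ s = εa ∧ φ (s * r) = εb := by
  classical
  set ε := εa + εb with hε
  let φ : G → ZMod 2 := fun x => if hx : ∃ i : ℤ, r ^ i = x then (hx.choose : ZMod 2) * ε
    else if hy : ∃ i : ℤ, r ^ i = s * x then εa + (hy.choose : ZMod 2) * ε else 0
  have hr : ∀ i : ℤ, φ (r ^ i) = (i : ZMod 2) * ε := fun i => by
    have hx : ∃ j : ℤ, r ^ j = r ^ i := ⟨i, rfl⟩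
    simp only [φ, dif_pos hx]
    rw [h.parity hx.choose_spec]
  have hs : ∀ i : ℤ, φ (s * r ^ i) = εa + (i : ZMod 2) * ε := fun i => by
    have hx : ¬ ∃ j : ℤ, r ^ j = s * r ^ i := fun ⟨j, hj⟩ =>
      h.not_mem_refl (zpow_mem (mem_zpowers r) i) (hj ▸ zpow_mem (mem_zpowers r) j)
    have hy : ∃ j : ℤ, r ^ j = s * (s * r ^ i) := ⟨i, by rw [← mul_assoc, h.s_sq, one_mul]⟩
    simp only [φ, dif_neg hx, dif_pos hy]
    have e := hy.choose_spec
    conv at e => rhs; rw [← mul_assoc, h.s_sq, one_mul]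
    rw [h.parity e]
  have hform : ∀ x ∈ D, (∃ i : ℤ, x = r ^ i) ∨ ∃ i : ℤ, x = s * r ^ i := fun x hx => by
    rcases h.cover x hx with hc | hc <;> obtain ⟨i, hi⟩ := mem_zpowers_iff.1 hc
    · exact Or.inl ⟨i, hi.symm⟩
    · exact Or.inr ⟨i, by rw [hi, ← mul_assoc, h.s_sq, one_mul]⟩
  have hcomm : ∀ i : ℤ, r ^ i * s = s * r ^ (-i) := fun i => by
    rw [h.s_mul_rot (zpow_mem (mem_zpowers r) (-i)), zpow_neg, inv_inv]
  refine ⟨φ, fun x hx y hy => ?_, by simpa using hs 0, ?_⟩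
  · rcases hform x hx with ⟨i, rfl⟩ | ⟨i, rfl⟩ <;> rcases hform y hy with ⟨j, rfl⟩ | ⟨j, rfl⟩
    · rw [← zpow_add, hr, hr, hr]; push_cast; ring
    · rw [← mul_assoc, hcomm, mul_assoc, ← zpow_add, hs, hs, hr]
      push_cast; rw [ZMod.neg_eq_self_mod_two]; ring
    · rw [mul_assoc, ← zpow_add, hs, hs, hr]; push_cast; ring
    · rw [mul_assoc, ← mul_assoc (r ^ i), hcomm, mul_assoc, ← mul_assoc, h.s_sq, one_mul, ← zpow_add, hr, hs, hs]
      push_cast
      rw [ZMod.neg_eq_self_mod_two, show εa + (i : ZMod 2) * ε + (εa + (j : ZMod 2) * ε) =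
        (εa + εa) + ((i : ZMod 2) + (j : ZMod 2)) * ε by ring, CharTwo.add_self_eq_zero, zero_add]
  · rw [← zpow_one r, hs, hε, Int.cast_one, one_mul, ← add_assoc, CharTwo.add_self_eq_zero, zero_add]

end Dih

end CfsgLib.ProductFusion
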