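import Cfsg.Agent.Lib.ProductFusion.Twist

/-!
The fusion of involutions when the second factor is a four-group: the members of the family which move `z`.
-/

set_option autoImplicit false
set_option linter.unusedSectionVars false
set_option linter.style.haveILetI false

namespace CfsgLib.ProductFusion

open Subgroup Cfsg
open CfsgLib.Techniques.AlperinGoldschmidtCore (good self_mem_good)

variable {G : Type*} [Group G] [Finite G] {S : Sylow 2 G}

/-- The centre of a Sylow subgroup, in the ambient group. -/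
def sylCenter (S : Sylow 2 G) : Subgroup G := (S : Subgroup G) ⊓ centralizer ((S : Subgroup G) : Set G)

theorem sylCenter_comm {a x : G} (ha : a ∈ sylCenter S) (hx : x ∈ (S : Subgroup G)) : x * a = a * x :=
  mem_centralizer_iff.1 ha.2 x hx

theorem sylCenter_le_good {X : Subgroup G} (hX : X ∈ good S) : sylCenter S ≤ X := fun _ hy =>
  mem_of_centralizes hX hy.1 fun _ hx => (sylCenter_comm hy (good_le hX hx)).symm

/-- An element of the normalizer of the centre acts on it as an element of the normalizer of `S`. -/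
theorem exists_center_action {n : G} (hn : ∀ x ∈ sylCenter S, n * x * n⁻¹ ∈ sylCenter S) :
    ∃ m ∈ normalizer ((S : Subgroup G) : Set G), ∀ x ∈ sylCenter S, m * x * m⁻¹ = n * x * n⁻¹ := by
  haveI : Fact (Nat.Prime 2) := ⟨Nat.prime_two⟩
  set H := centralizer (sylCenter S : Set G) with hH
  have hnN : n ∈ normalizer (sylCenter S : Set G) := Fusion.mem_normalizer_of_forall hn
  have hSH : (S : Subgroup G) ≤ H := fun s hs =>
    mem_centralizer_iff.2 fun a ha => (sylCenter_comm ha hs).symm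
  obtain ⟨c, hc, hcS⟩ := Transfer.exists_conj_mem_sylow_of_le S (H := H)
    (S := (S : Subgroup G).map (MulAut.conj n).toMonoidHom) hSH (by
      rintro _ ⟨s, hs, rfl⟩
      exact mem_normalizer_conj (Fusion.normalizer_le_normalizer_centralizer _ hnN) (hSH hs))
    (S.2.map _)
  refine ⟨c * n, Fusion.mem_normalizer_of_forall fun s hs => ?_, fun x hx => ?_⟩
  · rw [show c * n * s * (c * n)⁻¹ = c * (n * s * n⁻¹) * c⁻¹ by group]
    exact hcS _ ⟨s, hs, rfl⟩
  · rw [show c * n * x * (c * n)⁻¹ = c * (n * x * n⁻¹) * c⁻¹ by group,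
      ← mem_centralizer_iff.1 hc _ (hn x hx), mul_inv_cancel_right]

/-- The elements of the centre staying there under the normalizer of `X`. -/
def core (S : Sylow 2 G) (X : Subgroup G) : Subgroup G where
  carrier := {x | ∀ n ∈ normalizer (X : Set G), n * x * n⁻¹ ∈ sylCenter S}
  one_mem' n _ := by simp
  mul_mem' {a b} ha hb n hn := by rw [← conj_mul]; exact mul_mem (ha n hn) (hb n hn)
  inv_mem' {a} ha n hn := by rw [← conj_inv]; exact inv_mem (ha n hn)

theorem core_le (X : Subgroup G) : core S X ≤ sylCenter S := fun x hx => by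
  simpa using hx 1 (one_mem _)

theorem core_inv {X : Subgroup G} {n x : G} (hn : n ∈ normalizer (X : Set G)) (hx : x ∈ core S X) :
    n * x * n⁻¹ ∈ core S X := fun m hm => by
  rw [show m * (n * x * n⁻¹) * m⁻¹ = m * n * x * (m * n)⁻¹ by group]
  exact hx _ (mul_mem hm hn)

namespace Split

variable (h : Split S) (hk : 1 ≤ h.k) (hk' : h.k' = 0)
include hk hk'

theorem B_comm {a b : G} (ha : a ∈ h.B) (hb : b ∈ h.B) : a * b = b * a :=
  h.dih'.isMulCommutative_of_zero hk' ha hb

theorem mem_center_iff {x : G} :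
    x ∈ sylCenter S ↔ x ∈ (S : Subgroup G) ∧ (h.p x = 1 ∨ h.p x = h.z) := by
  constructor
  · intro hx
    have hxS : x ∈ (S : Subgroup G) := hx.1
    have hcomm : ∀ a ∈ h.A, a * h.p x = h.p x * a := fun a ha => by
      have := congrArg h.p (sylCenter_comm hx (h.le ha))
      rwa [h.p_hom (h.le ha) hxS, h.p_hom hxS (h.le ha), h.p_self ha] at this
    have hC : h.p x ∈ h.C := by
      by_contra hn
      have h1 := h.dih.refl_conj (h.p_mem hxS) hn h.root_mem
      rw [← hcomm _ (h.C_le h.root_mem), mul_inv_cancel_right] at h1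
      refine h.dih.z_ne ?_
      rw [show h.r ^ 2 ^ h.k = h.root * h.root from (h.root_sq hk).symm]
      nth_rewrite 1 [h1]
      exact inv_mul_cancel _
    refine ⟨hxS, h.dih.rot_invol hC ?_⟩
    have h1 := h.dih.s_conj_rot hC
    rw [hcomm _ h.dih.s_mem, mul_inv_cancel_right] at h1
    nth_rewrite 1 [h1]
    exact inv_mul_cancel _
  · rintro ⟨hxS, hp⟩
    refine ⟨hxS, mem_centralizer_iff.2 fun y hy => h.commutes hy hxS ?_
      (h.B_comm hk hk' (h.q_mem hy) (h.q_mem hxS))⟩
    rcases hp with e | e <;> rw [e]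
    · simp
    · exact h.dih.z_comm (h.p_mem hy)

theorem B_le_center {b : G} (hb : b ∈ h.B) : b ∈ sylCenter S :=
  (h.mem_center_iff hk hk').2 ⟨h.le' hb, Or.inl (h.swap.q_self hb)⟩

theorem z_mem_center : h.z ∈ sylCenter S := (h.mem_center_iff hk hk').2 ⟨h.z_mem_sylow, Or.inr h.p_z⟩

theorem mem_center_of_invol {x : G} (hx : x ∈ (S : Subgroup G)) (h2 : x * x = 1) (hc : h.p x ∈ h.C) :
    x ∈ sylCenter S :=
  (h.mem_center_iff hk hk').2 ⟨hx, h.p_invol_rot hx h2 hc⟩

theorem p_rot_of_center {x : G} (hx : x ∈ sylCenter S) : h.p x ∈ h.C := by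
  rcases ((h.mem_center_iff hk hk').1 hx).2 with e | e <;> rw [e]
  exacts [one_mem _, h.z_mem_C]

theorem q_sq {x : G} (hx : x ∈ (S : Subgroup G)) : h.q x * h.q x = 1 := by
  rw [← h.q_hom hx hx]; exact h.q_sq_of_zero hk' hx

theorem center_sq {x : G} (hx : x ∈ sylCenter S) : x * x = 1 := by
  obtain ⟨hxS, hp⟩ := (h.mem_center_iff hk hk').1 hx
  refine h.ext (mul_mem hxS hxS) (one_mem _) ?_ ?_
  · rw [h.p_hom hxS hxS, h.p_one]
    rcases hp with e | e <;> rw [e]
    · exact mul_one _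
    · exact h.dih.z_sq
  · rw [h.q_hom hxS hxS, show h.q 1 = 1 from h.swap.p_one]
    exact h.q_sq hk hk' hxS

theorem center_eq_z {y : G} (hy : y ∈ sylCenter S) (hc : IsConj y h.z) : y = h.z :=
  h.conj_z_central hk (fun _ hx => sylCenter_comm hy hx) hc.symm

/-- Multiplying by `z` a conjugate of `z` outside of the centre gives another one. -/
theorem conj_root' {x : G} (hx : x ∈ (S : Subgroup G)) (hp : h.p x ∉ h.C) :
    h.root * x * h.root⁻¹ = x * h.z := by
  rw [h.conj_of_mem_A (h.C_le h.root_mem) hx, h.root_refl hk (h.p_mem hx) hp]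
  nth_rewrite 3 [(h.decomp hx).2.2]
  rw [mul_assoc, h.comm h.z_mem (h.q_mem hx), mul_assoc]

variable {X : Subgroup G} (hX : X ∈ good S)
include hX

theorem elementary_of_small (hb : ¬ h.Big X) : ∀ x ∈ X, x * x = 1 := by
  intro x hx
  have hxS := good_le hX hx
  refine h.ext (mul_mem hxS hxS) (one_mem _) ?_ ?_
  · rw [h.p_hom hxS hxS, h.p_one]
    by_cases hc : h.p x ∈ h.C
    · by_contra h4; exact hb ⟨_, h.p_mem_good hX hx, hc, h4⟩
    · exact h.dih.refl_sq (h.p_mem hxS) hc
  · rw [h.q_hom hxS hxS, show h.q 1 = 1 from h.swap.p_one]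
    exact h.q_sq hk hk' hxS

theorem big_preserves_center (hb : h.Big X) {n : G} (hn : n ∈ normalizer (X : Set G)) {x : G}
    (hx : x ∈ sylCenter S) : n * x * n⁻¹ ∈ sylCenter S := by
  have hxX := sylCenter_le_good hX hx
  have hnx := mem_normalizer_conj hn hxX
  have hS := good_le hX hnx
  have hcomm : ∀ y ∈ X, y * (n * x * n⁻¹) = n * x * n⁻¹ * y := fun y hy => by
    have h1 := sylCenter_comm hx (good_le hX (mem_normalizer_conj (inv_mem hn) hy))
    calc y * (n * x * n⁻¹) = n * (n⁻¹ * y * n⁻¹⁻¹ * x) * n⁻¹ := by group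
      _ = n * (x * (n⁻¹ * y * n⁻¹⁻¹)) * n⁻¹ := by rw [h1]
      _ = n * x * n⁻¹ * y := by group
  have hp : ∀ a ∈ X, a ∈ h.A → a * h.p (n * x * n⁻¹) = h.p (n * x * n⁻¹) * a := fun a ha haA => by
    have := congrArg h.p (hcomm a ha)
    rwa [h.p_hom (good_le hX ha) hS, h.p_hom hS (good_le hX ha), h.p_self haA] at this
  obtain ⟨c, hc, hcC, hc2⟩ := hb
  obtain ⟨v, hv, hvA, hvC⟩ := h.exists_refl_good hX
  have hC : h.p (n * x * n⁻¹) ∈ h.C := by
    by_contra hn'
    have h1 := h.dih.refl_conj (h.p_mem hS) hn' hcC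
    rw [← hp c hc (h.C_le hcC), mul_inv_cancel_right] at h1
    refine hc2 ?_
    nth_rewrite 1 [h1]
    exact inv_mul_cancel _
  refine (h.mem_center_iff hk hk').2 ⟨hS, h.dih.rot_invol hC ?_⟩
  have h1 := h.dih.refl_conj hvA hvC hC
  rw [hp v hv hvA, mul_inv_cancel_right] at h1
  nth_rewrite 1 [h1]
  exact inv_mul_cancel _

variable (hel : ∀ x ∈ X, x * x = 1)
include hel

theorem fix_center {n : G} (hn : n ∈ normalizer (X : Set G)) (hz : n * h.z * n⁻¹ = h.z) {x : G}
    (hx : x ∈ sylCenter S) : n * x * n⁻¹ ∈ sylCenter S := by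
  have hxX := sylCenter_le_good hX hx
  have h1 := mem_normalizer_conj hn hxX
  exact h.mem_center_of_invol hk hk' (good_le hX h1) (hel _ h1)
    (h.fix_p_rot hX hk hel hn hz hxX (h.p_rot_of_center hk hk' hx))

variable {g : G} (hg : g ∈ normalizer (X : Set G)) (hgz : g * h.z * g⁻¹ ≠ h.z)
include hg hgz

theorem moved_refl : h.p (g * h.z * g⁻¹) ∉ h.C := fun hc => by
  have h1 := mem_normalizer_conj hg (h.z_mem_good hX)
  exact hgz (h.center_eq_z hk hk' (h.mem_center_of_invol hk hk' (good_le hX h1) (hel _ h1) hc)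
    (isConj_iff.2 ⟨g, rfl⟩ : IsConj h.z _).symm)

theorem moved_inv : g⁻¹ * h.z * g⁻¹⁻¹ ≠ h.z := fun e => hgz (by
  conv_lhs => rw [← e]
  group)

theorem orbit {n : G} (hn : n ∈ normalizer (X : Set G)) : n * h.z * n⁻¹ = h.z ∨
    n * h.z * n⁻¹ = g * h.z * g⁻¹ ∨ n * h.z * n⁻¹ = g * h.z * g⁻¹ * h.z := by
  by_cases hnz : n * h.z * n⁻¹ = h.z
  · exact Or.inl hnz
  right
  have hzX := h.z_mem_good hX
  set u := g * h.z * g⁻¹ with hu
  set w := n * h.z * n⁻¹ with hw
  have huX : u ∈ X := mem_normalizer_conj hg hzX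
  have hwX : w ∈ X := mem_normalizer_conj hn hzX
  have hwc : IsConj w h.z := (isConj_iff.2 ⟨n, rfl⟩ : IsConj h.z w).symm
  have hpu := h.moved_refl hk hk' hX hel hg hgz
  have hpw := h.moved_refl hk hk' hX hel hn hnz
  by_cases hwu : w = u
  · exact Or.inl hwu
  right
  set w' := g⁻¹ * w * g⁻¹⁻¹ with hw'
  have hw'X : w' ∈ X := mem_normalizer_conj (inv_mem hg) hwX
  have hw'c : IsConj w' h.z := (isConj_iff.2 ⟨g⁻¹, rfl⟩ : IsConj w w').symm.trans hwc
  have hw'p : h.p w' ∉ h.C := fun hc => hwu (by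
    have e := h.center_eq_z hk hk' (h.mem_center_of_invol hk hk' (good_le hX hw'X) (hel _ hw'X) hc) hw'c
    rw [hu, ← e, hw']; group)
  -- the conjugate transvection moves `w` by `u`
  have hc : IsConj w (w * u) := isConj_iff.2 ⟨g * h.root * g⁻¹, by
    rw [show g * h.root * g⁻¹ * w * (g * h.root * g⁻¹)⁻¹ = g * (h.root * w' * h.root⁻¹) * g⁻¹ by
      rw [hw']; group, h.conj_root' hk hk' (good_le hX hw'X) hw'p, ← conj_mul, hw', hu]
    group⟩
  have hwuX : w * u ∈ X := mul_mem hwX huX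
  have e := h.center_eq_z hk hk' (h.mem_center_of_invol hk hk' (good_le hX hwuX) (hel _ hwuX) (by
    rw [h.p_hom (good_le hX hwX) (good_le hX huX)]
    exact h.dih.refl_mul (h.p_mem (good_le hX hwX)) hpw (h.p_mem (good_le hX huX)) hpu))
    (hc.symm.trans hwc)
  calc w = w * u * u := by rw [mul_assoc, hel u huX, mul_one]
    _ = u * h.z := by rw [e, h.z_central (good_le hX huX)]

theorem z_not_core : h.z ∉ core S X := fun hc =>
  h.moved_refl hk hk' hX hel hg hgz (h.p_rot_of_center hk hk' (hc g hg))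

theorem mem_core_of {x : G} (hx : x ∈ sylCenter S) (hgx : g⁻¹ * x * g ∈ sylCenter S) : x ∈ core S X := by
  intro n hn
  have hroot := h.root_mem_normalizer hX hk
  have hrx : h.root * x * h.root⁻¹ = x := by
    rw [sylCenter_comm hx h.root_mem_sylow, mul_inv_cancel_right]
  rcases h.orbit hk hk' hX hel hg hgz (inv_mem hn) with e | e | e
  · refine h.fix_center hk hk' hX hel hn ?_ hx
    conv_lhs => rw [← e]
    group
  · have hfix : n * g * h.z * (n * g)⁻¹ = h.z := by
      rw [show n * g * h.z * (n * g)⁻¹ = n * (g * h.z * g⁻¹) * n⁻¹ by group, ← e]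
      group
    have := h.fix_center hk hk' hX hel (mul_mem hn hg) hfix hgx
    rwa [show n * g * (g⁻¹ * x * g) * (n * g)⁻¹ = n * x * n⁻¹ by group] at this
  · have hu := mem_normalizer_conj hg (h.z_mem_good hX)
    have hfix : n * h.root * g * h.z * (n * h.root * g)⁻¹ = h.z := by
      rw [show n * h.root * g * h.z * (n * h.root * g)⁻¹ =
        n * (h.root * (g * h.z * g⁻¹) * h.root⁻¹) * n⁻¹ by group,
        h.conj_root' hk hk' (good_le hX hu) (h.moved_refl hk hk' hX hel hg hgz), ← e]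
      group
    have := h.fix_center hk hk' hX hel (mul_mem (mul_mem hn hroot) hg) hfix hgx
    rwa [show n * h.root * g * (g⁻¹ * x * g) * (n * h.root * g)⁻¹ = n * (h.root * x * h.root⁻¹) * n⁻¹ by group,
      hrx] at this

theorem core_or {y : G} (hy : y ∈ sylCenter S) : y ∈ core S X ∨ y * h.z ∈ core S X := by
  have hyX := sylCenter_le_good hX hy
  have h1 : g⁻¹ * y * g ∈ X := by simpa using mem_normalizer_conj (inv_mem hg) hyX
  by_cases hc : h.p (g⁻¹ * y * g) ∈ h.C
  · exact Or.inl (h.mem_core_of hk hk' hX hel hg hgz hy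
      (h.mem_center_of_invol hk hk' (good_le hX h1) (hel _ h1) hc))
  · right
    have hu2 := h.moved_refl hk hk' hX hel (inv_mem hg) (h.moved_inv hk hk' hX hel hg hgz)
    rw [inv_inv] at hu2
    have h2 : g⁻¹ * h.z * g ∈ X := by simpa using mem_normalizer_conj (inv_mem hg) (h.z_mem_good hX)
    refine h.mem_core_of hk hk' hX hel hg hgz (mul_mem hy (h.z_mem_center hk hk')) ?_
    rw [show g⁻¹ * (y * h.z) * g = g⁻¹ * y * g * (g⁻¹ * h.z * g) by group]
    refine h.mem_center_of_invol hk hk' (good_le hX (mul_mem h1 h2)) (hel _ (mul_mem h1 h2)) ?_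
    rw [h.p_hom (good_le hX h1) (good_le hX h2)]
    exact h.dih.refl_mul (h.p_mem (good_le hX h1)) hc (h.p_mem (good_le hX h2)) hu2

/-- The conjugates of `z` in `X` have a single second component. -/
theorem q_unique {x : G} (hx : x ∈ X) (hp : h.p x ∉ h.C) (hc : IsConj x h.z) :
    h.q x = h.q (g * h.z * g⁻¹) := by
  set u := g * h.z * g⁻¹ with hu
  have huX : u ∈ X := mem_normalizer_conj hg (h.z_mem_good hX)
  have huS := good_le hX huX
  have hxS := good_le hX hx
  have hy : u * x ∈ sylCenter S := h.mem_center_of_invol hk hk' (mul_mem huS hxS) (hel _ (mul_mem huX hx)) (by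
    rw [h.p_hom huS hxS]
    exact h.dih.refl_mul (h.p_mem huS) (h.moved_refl hk hk' hX hel hg hgz) (h.p_mem hxS) hp)
  have key : ∀ c ∈ core S X, IsConj (u * c) h.z → c = 1 := by
    intro c hc' hcc
    have h1 := hc' g⁻¹ (inv_mem hg)
    rw [inv_inv] at h1
    have h2 : g⁻¹ * (u * c) * g = h.z * (g⁻¹ * c * g) := by rw [hu]; group
    have h3 := h.center_eq_z hk hk' (mul_mem (h.z_mem_center hk hk') h1)
      ((isConj_iff.2 ⟨g⁻¹, by rw [← h2, inv_inv]⟩ : IsConj (u * c) _).symm.trans hcc)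
    rw [mul_eq_left] at h3
    exact conj_eq_one_iff.1 (show g⁻¹ * c * g⁻¹⁻¹ = 1 by rw [inv_inv]; exact h3)
  have hqz : h.q (u * x) = 1 := by
    rcases h.core_or hk hk' hX hel hg hgz hy with hc' | hc'
    · rw [key _ hc' (by rwa [← mul_assoc, hel u huX, one_mul])]
      exact h.swap.p_one
    · have e1 := key _ hc' (by
        rw [← mul_assoc, ← mul_assoc, hel u huX, one_mul]
        exact (isConj_iff.2 ⟨h.root, h.conj_root' hk hk' hxS hp⟩ : IsConj x (x * h.z)).symm.trans hc)
      rw [mul_eq_one_iff_eq_inv.1 e1, h.dih.z_inv, h.q_z]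
  rw [h.q_hom huS hxS] at hqz
  calc h.q x = h.q u * h.q u * h.q x := by rw [h.q_sq hk hk' huS, one_mul]
    _ = h.q u := by rw [mul_assoc, hqz, mul_one]

/-- An element of odd order which moves `z` fixes the core when the normalizer of `S` fixes the centre. -/
theorem core_fixed (hfix : ∀ m ∈ normalizer ((S : Subgroup G) : Set G), ∀ x ∈ sylCenter S, m * x * m⁻¹ = x)
    (hodd : Odd (orderOf g)) {x : G} (hx : x ∈ core S X) : g * x * g⁻¹ = x := by
  have hzX := h.z_mem_good hX
  have hroot := h.root_mem_normalizer hX hk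
  set u := g * h.z * g⁻¹ with hu
  have huX : u ∈ X := mem_normalizer_conj hg hzX
  have huS := good_le hX huX
  have hur := h.moved_refl hk hk' hX hel hg hgz
  have hku : g * u * g⁻¹ = u * h.z := by
    rcases h.orbit hk hk' hX hel hg hgz (mul_mem hg hg) with e | e | e
    all_goals rw [show g * g * h.z * (g * g)⁻¹ = g * u * g⁻¹ by rw [hu]; group] at e
    · exact absurd (eq_of_odd_swap hodd rfl e).symm hgz
    · exact absurd (conj_injective e) hgz
    · exact e
  have hkuz : g * (u * h.z) * g⁻¹ = h.z := by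
    rcases h.orbit hk hk' hX hel hg hgz (mul_mem (mul_mem hg hg) hg) with e | e | e
    all_goals rw [show g * g * g * h.z * (g * g * g)⁻¹ = g * (g * u * g⁻¹) * g⁻¹ by rw [hu]; group, hku] at e
    · exact e
    · have := conj_injective e
      exact absurd (mul_eq_right.1 this) (fun hh => hur (by
        rw [show g * h.z * g⁻¹ = 1 from hh, h.p_one]; exact one_mem _))
    · exact absurd (conj_injective (e.trans hku.symm)) (fun hh => h.dih.z_ne (mul_eq_left.1 hh))
  have hrootu : h.root⁻¹ * u * h.root = u * h.z := by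
    have e := h.conj_root' hk hk' huS hur
    calc h.root⁻¹ * u * h.root = h.root⁻¹ * (h.root * u * h.root⁻¹ * h.z) * h.root := by
          rw [e, mul_assoc u, h.dih.z_sq, mul_one]
      _ = u * (h.root⁻¹ * (h.root * h.z)) := by rw [h.z_central h.root_mem_sylow]; group
      _ = u * h.z := by group
  have hact : ∀ n ∈ normalizer (X : Set G), n * h.z * n⁻¹ = h.z → ∀ y ∈ sylCenter S, n * y * n⁻¹ = y := by
    intro n hn hnz y hy
    obtain ⟨m, hm, e⟩ := exists_center_action fun y hy => h.fix_center hk hk' hX hel hn hnz hy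
    rw [← e y hy, hfix m hm y hy]
  have hcz := fun {y : G} (hy : y ∈ core S X) =>
    show h.root * y * h.root⁻¹ = y by
      rw [sylCenter_comm (core_le X hy) h.root_mem_sylow, mul_inv_cancel_right]
  set n₁ := h.root * g * h.root⁻¹ * g with hn₁
  have hn₁N : n₁ ∈ normalizer (X : Set G) := mul_mem (mul_mem (mul_mem hroot hg) (inv_mem hroot)) hg
  have h1 : n₁ * h.z * n₁⁻¹ = h.z := by
    rw [show n₁ * h.z * n₁⁻¹ = h.root * (g * (h.root⁻¹ * u * h.root) * g⁻¹) * h.root⁻¹ by
      rw [hn₁, hu]; group, hrootu, hkuz, h.z_central h.root_mem_sylow, mul_inv_cancel_right]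
  have h2 : g * (g * x * g⁻¹) * g⁻¹ = x := by
    have e := hact n₁ hn₁N h1 x (core_le X hx)
    have ha := core_inv hg hx
    have hb := core_inv hg ha
    rw [show n₁ * x * n₁⁻¹ = h.root * (g * (h.root⁻¹ * (g * x * g⁻¹) * h.root) * g⁻¹) * h.root⁻¹ by
      rw [hn₁]; group] at e
    rw [show h.root⁻¹ * (g * x * g⁻¹) * h.root = g * x * g⁻¹ by
      conv_lhs => rw [← hcz ha]
      group, hcz hb] at e
    exact e
  have h3 : g * (g * (g * x * g⁻¹) * g⁻¹) * g⁻¹ = x := by
    have e := hact (g * g * g) (mul_mem (mul_mem hg hg) hg) (by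
      rw [show g * g * g * h.z * (g * g * g)⁻¹ = g * (g * u * g⁻¹) * g⁻¹ by rw [hu]; group, hku, hkuz])
      x (core_le X hx)
    rw [show g * g * g * x * (g * g * g)⁻¹ = g * (g * (g * x * g⁻¹) * g⁻¹) * g⁻¹ by group] at e
    exact e
  rwa [h2] at h3

end Split

end CfsgLib.ProductFusion
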