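import Cfsg.Agent.Lib.ProductFusion.Four

/-!
The fusion of involutions when the second factor is a four-group.
-/

set_option autoImplicit false
set_option linter.unusedSectionVars false
set_option linter.style.haveILetI false

namespace CfsgLib.ProductFusion

open Subgroup Cfsg
open CfsgLib.Techniques.AlperinGoldschmidtCore (good self_mem_good)

variable {G : Type*} [Group G] [Finite G] {S : Sylow 2 G}

theorem normalizer_center {n : G} (hn : n ∈ normalizer ((S : Subgroup G) : Set G)) {x : G}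
    (hx : x ∈ sylCenter S) : n * x * n⁻¹ ∈ sylCenter S := by
  refine ⟨mem_normalizer_conj hn hx.1, mem_centralizer_iff.2 fun y hy => ?_⟩
  have := sylCenter_comm hx (mem_normalizer_conj (inv_mem hn) hy)
  calc y * (n * x * n⁻¹) = n * (n⁻¹ * y * n⁻¹⁻¹ * x) * n⁻¹ := by group
    _ = n * (x * (n⁻¹ * y * n⁻¹⁻¹)) * n⁻¹ := by rw [this]
    _ = n * x * n⁻¹ * y := by group

namespace Split

variable (h : Split S)

theorem hom_conj {φ : G → ZMod 2} (hφ : ∀ x ∈ h.A, ∀ y ∈ h.A, φ (x * y) = φ x + φ y) {a v : G}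
    (ha : a ∈ h.A) (hv : v ∈ h.A) : φ (a * v * a⁻¹) = φ v := by
  have h0 : φ 1 = 0 := by simpa using hφ 1 (one_mem _) 1 (one_mem _)
  have h1 := hφ a ha a⁻¹ (inv_mem ha)
  rw [mul_inv_cancel, h0] at h1
  rw [hφ _ (mul_mem ha hv) _ (inv_mem ha), hφ a ha v hv, add_right_comm, ← h1, zero_add]

theorem class_rep {v : G} (hv : v ∈ h.A) (hn : v ∉ h.C) :
    ∃ a ∈ h.A, a * v * a⁻¹ = h.s ∨ a * v * a⁻¹ = h.s * h.r := by
  obtain ⟨ψ, hψ, hψs, hψr⟩ := h.exists_class h.dih.s_mem h.dih.s_not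
  rcases zmod_two (ψ v) with e | e
  · obtain ⟨a, ha, e'⟩ := h.exists_conj_of_parity hψ hψr hv hn (mul_mem h.dih.s_mem h.dih.r_mem)
      (h.dih.not_mem_refl (mem_zpowers _))
      (by rw [e, hψ _ h.dih.s_mem _ h.dih.r_mem, hψs, hψr, CharTwo.add_self_eq_zero])
    exact ⟨a, ha, Or.inr e'⟩
  · obtain ⟨a, ha, e'⟩ := h.exists_conj_of_parity hψ hψr hv hn h.dih.s_mem h.dih.s_not (e.trans hψs.symm)
    exact ⟨a, ha, Or.inl e'⟩

theorem conj_A_B {a x : G} (ha : a ∈ h.A) (hx : x ∈ (S : Subgroup G)) :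
    h.p (a * x * a⁻¹) = a * h.p x * a⁻¹ ∧ h.q (a * x * a⁻¹) = h.q x := by
  have hm : a * h.p x * a⁻¹ ∈ h.A := mul_mem (mul_mem ha (h.p_mem hx)) (inv_mem ha)
  rw [h.conj_of_mem_A ha hx]
  exact ⟨h.p_mul hm (h.q_mem hx), h.q_mul hm (h.q_mem hx)⟩

variable (hk : 1 ≤ h.k) (hk' : h.k' = 0)
include hk hk'

theorem big_sylow : h.Big (S : Subgroup G) := by
  refine ⟨h.r, h.le h.dih.r_mem, mem_zpowers _, fun e => ?_⟩
  have h5 : 2 ^ (h.k + 1) ∣ 2 := h.dih.order_r ▸ orderOf_dvd_of_pow_eq_one (by rw [pow_two]; exact e)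
  have h6 := (Nat.pow_dvd_pow_iff_le_right (x := 2) (by norm_num)).1 (h5.trans (pow_one 2).symm.dvd)
  omega

theorem fix_center_all (hodd : ∀ m ∈ normalizer ((S : Subgroup G) : Set G), Odd (orderOf m) →
      ∀ x ∈ sylCenter S, m * x * m⁻¹ = x) :
    ∀ m ∈ normalizer ((S : Subgroup G) : Set G), ∀ x ∈ sylCenter S, m * x * m⁻¹ = x := by
  have hle : normalizer ((S : Subgroup G) : Set G) ≤ centralizer (sylCenter S : Set G) :=
    normalizer_le_of (self_mem_good S) _
      (fun m hm ho => mem_centralizer_iff.2 fun x hx => (mul_inv_eq_iff_eq_mul.1 (hodd m hm ho x hx)).symm)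
      (fun s hs => mem_centralizer_iff.2 fun x hx => (sylCenter_comm hx hs.1).symm)
  intro m hm x hx
  rw [← mem_centralizer_iff.1 (hle hm) x hx, mul_inv_cancel_right]

/-- The second component of the moved `z` depends only on the class of the first. -/
theorem exists_class_value (w : G) : ∃ f ∈ h.B, ∀ X ∈ good S, ¬ h.Big X → ∀ g ∈ normalizer (X : Set G),
    g * h.z * g⁻¹ ≠ h.z → ∀ a ∈ h.A, a * h.p (g * h.z * g⁻¹) * a⁻¹ = w → h.q (g * h.z * g⁻¹) = f := by
  classical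
  by_cases hex : ∃ X ∈ good S, ¬ h.Big X ∧ ∃ g ∈ normalizer (X : Set G),
      g * h.z * g⁻¹ ≠ h.z ∧ ∃ a ∈ h.A, a * h.p (g * h.z * g⁻¹) * a⁻¹ = w
  · obtain ⟨X₀, hX₀, hb₀, g₀, hg₀, hgz₀, a₀, ha₀, e₀⟩ := hex
    have hu₀X := mem_normalizer_conj hg₀ (h.z_mem_good hX₀)
    refine ⟨_, h.q_mem (good_le hX₀ hu₀X), fun X hX hb g hg hgz a ha e => ?_⟩
    have huX := mem_normalizer_conj hg (h.z_mem_good hX)
    have huS := good_le hX huX
    set c := a₀⁻¹ * a with hc
    have hcA : c ∈ h.A := mul_mem (inv_mem ha₀) ha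
    obtain ⟨ep, eq'⟩ := h.conj_A_B hcA huS
    have ep' : h.p (c * (g * h.z * g⁻¹) * c⁻¹) = h.p (g₀ * h.z * g₀⁻¹) := by
      rw [ep, hc, show a₀⁻¹ * a * h.p (g * h.z * g⁻¹) * (a₀⁻¹ * a)⁻¹ =
        a₀⁻¹ * (a * h.p (g * h.z * g⁻¹) * a⁻¹) * a₀ by group, e, ← e₀]
      group
    have hxS : c * (g * h.z * g⁻¹) * c⁻¹ ∈ (S : Subgroup G) :=
      mul_mem (mul_mem (h.le hcA) huS) (inv_mem (h.le hcA))
    have hxX : c * (g * h.z * g⁻¹) * c⁻¹ ∈ X₀ := by
      rw [(h.decomp hxS).2.2, ep']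
      exact mul_mem (h.p_mem_good hX₀ hu₀X) (sylCenter_le_good hX₀ (h.B_le_center hk hk' (h.q_mem hxS)))
    rw [← eq']
    refine h.q_unique hk hk' hX₀ (h.elementary_of_small hk hk' hX₀ hb₀) hg₀ hgz₀ hxX ?_ ?_
    · rw [ep']
      exact h.moved_refl hk hk' hX₀ (h.elementary_of_small hk hk' hX₀ hb₀) hg₀ hgz₀
    · exact (isConj_iff.2 ⟨c * g, by group⟩ : IsConj h.z _).symm
  · exact ⟨1, one_mem _, fun X hX hb g hg hgz a ha e => absurd ⟨X, hX, hb, g, hg, hgz, a, ha, e⟩ hex⟩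

variable (h2 : ∀ N : Subgroup G, N.Normal → N.index ≠ 2)
include h2

/-- The normalizer of `S` moves the centre. -/
theorem exists_center_moved : ∃ k ∈ normalizer ((S : Subgroup G) : Set G), Odd (orderOf k) ∧
    ∃ x ∈ sylCenter S, k * x * k⁻¹ ≠ x := by
  by_contra H
  push Not at H
  have hfix := h.fix_center_all hk hk' H
  obtain ⟨ψ, hψ, hψs, -⟩ := h.dih'.exists_hom 1 0
  obtain ⟨fa, -, hfa⟩ := h.exists_class_value hk hk' h.s
  obtain ⟨fb, -, hfb⟩ := h.exists_class_value hk hk' (h.s * h.r)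
  obtain ⟨φ, hφ, hφa, hφb⟩ := h.dih.exists_hom (ψ fa) (ψ fb)
  set χ : G → ZMod 2 := fun x => φ (h.p x) + ψ (h.q x) with hχ
  have hφ1 : φ 1 = 0 := by simpa using hφ 1 (one_mem _) 1 (one_mem _)
  have hψ1 : ψ 1 = 0 := by simpa using hψ 1 (one_mem _) 1 (one_mem _)
  have hadd : ∀ x ∈ (S : Subgroup G), ∀ y ∈ (S : Subgroup G), χ (x * y) = χ x + χ y := fun x hx y hy => by
    simp only [hχ]
    rw [h.p_hom hx hy, h.q_hom hx hy, hφ _ (h.p_mem hx) _ (h.p_mem hy), hψ _ (h.q_mem hx) _ (h.q_mem hy)]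
    ring
  have hχz : χ h.z = 0 := by
    simp only [hχ]
    rw [h.p_z, h.q_z, hψ1, add_zero, ← h.root_sq hk,
      hφ _ (h.C_le h.root_mem) _ (h.C_le h.root_mem), CharTwo.add_self_eq_zero]
  refine invariant_false h2 χ hadd ?_ (h.le' h.dih'.s_mem) (by
    simp only [hχ]
    rw [show h.p h.s' = 1 from h.swap.q_self h.dih'.s_mem, show h.q h.s' = h.s' from h.swap.p_self h.dih'.s_mem,
      hφ1, hψs, zero_add]
    exact one_ne_zero)
  intro X hX k hkN hodd x hx
  have hXS := good_le hX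
  by_cases hb : h.Big X
  · refine h.preserve hX hk hb (fun a ha b hb => hadd a (hXS ha) b (hXS hb)) hkN hodd (fun d hd hdB => ?_) x hx
    obtain ⟨m, hm, e⟩ := exists_center_action fun y hy => h.big_preserves_center hk hk' hX hb hkN hy
    rw [← e d (h.B_le_center hk hk' hdB), hfix m hm d (h.B_le_center hk hk' hdB)]
  have hel := h.elementary_of_small hk hk' hX hb
  by_cases hz : k * h.z * k⁻¹ = h.z
  · obtain ⟨m, hm, e⟩ := exists_center_action fun y hy => h.fix_center hk hk' hX hel hkN hz hy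
    have htriv : ∀ y ∈ sylCenter S, k * y * k⁻¹ = y := fun y hy => by rw [← e y hy, hfix m hm y hy]
    have hc := centralizes_of_series (isPGroup_good hX) (sylCenter_le_good hX) hodd htriv fun y hy => ?_
    · rw [← mem_centralizer_iff.1 hc x hx, mul_inv_cancel_right]
    by_cases hcy : h.p y ∈ h.C
    · have := h.mem_center_of_invol hk hk' (hXS hy) (hel y hy) hcy
      rw [htriv y this, inv_mul_cancel]; exact one_mem _
    have hky := mem_normalizer_conj hkN hy
    have hky' : h.p (k * y * k⁻¹) ∉ h.C := fun hh => hcy (by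
      have hm' := h.mem_center_of_invol hk hk' (hXS hky) (hel _ hky) hh
      exact conj_injective (htriv _ hm') ▸ hh)
    refine h.mem_center_of_invol hk hk' (hXS (mul_mem (inv_mem hy) hky))
      (hel _ (mul_mem (inv_mem hy) hky)) ?_
    rw [h.p_hom (hXS (inv_mem hy)) (hXS hky), h.p_inv (hXS hy), h.dih.refl_inv' (h.p_mem (hXS hy)) hcy]
    exact h.dih.refl_mul (h.p_mem (hXS hy)) hcy (h.p_mem (hXS hky)) hky'
  have huX := mem_normalizer_conj hkN (h.z_mem_good hX)
  have hur := h.moved_refl hk hk' hX hel hkN hz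
  have hχu : χ (k * h.z * k⁻¹) = 0 := by
    obtain ⟨a, ha, e⟩ := h.class_rep (h.p_mem (hXS huX)) hur
    simp only [hχ]
    rw [← h.hom_conj hφ ha (h.p_mem (hXS huX))]
    rcases e with e | e <;> rw [e]
    · rw [hφa, hfa X hX hb k hkN hz a ha e, CharTwo.add_self_eq_zero]
    · rw [hφb, hfb X hX hb k hkN hz a ha e, CharTwo.add_self_eq_zero]
  have horb : ∀ n ∈ normalizer (X : Set G), χ (n * h.z * n⁻¹) = 0 := fun n hn => by
    rcases h.orbit hk hk' hX hel hkN hz hn with e | e | e <;> rw [e]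
    · exact hχz
    · exact hχu
    · rw [hadd _ (hXS huX) _ h.z_mem_sylow, hχu, hχz, add_zero]
  have hcen : ∀ y ∈ sylCenter S, χ (k * y * k⁻¹) = χ y := by
    intro y hy
    have hyX := sylCenter_le_good hX hy
    rcases h.core_or hk hk' hX hel hkN hz hy with hc | hc
    · rw [h.core_fixed hk hk' hX hel hkN hz hfix hodd hc]
    · have e := h.core_fixed hk hk' hX hel hkN hz hfix hodd hc
      have e2 : k * y * k⁻¹ = y * h.z * (k * h.z * k⁻¹) := by
        conv_rhs => rw [← e]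
        rw [conj_mul, mul_assoc y, h.dih.z_sq, mul_one]
      rw [e2, hadd _ (hXS (mul_mem hyX (h.z_mem_good hX))) _ (hXS huX), hadd _ hy.1 _ h.z_mem_sylow, hχz, hχu,
        add_zero, add_zero]
  by_cases hcx : h.p x ∈ h.C
  · exact hcen x (h.mem_center_of_invol hk hk' (hXS hx) (hel x hx) hcx)
  set u := k * h.z * k⁻¹ with hu
  have hy : u * x ∈ sylCenter S := h.mem_center_of_invol hk hk' (hXS (mul_mem huX hx))
    (hel _ (mul_mem huX hx)) (by
      rw [h.p_hom (hXS huX) (hXS hx)]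
      exact h.dih.refl_mul (h.p_mem (hXS huX)) hur (h.p_mem (hXS hx)) hcx)
  have ex : x = u * (u * x) := by rw [← mul_assoc, hel u huX, one_mul]
  have e1 : χ (k * u * k⁻¹) = 0 := by
    rw [show k * u * k⁻¹ = k * k * h.z * (k * k)⁻¹ by rw [hu]; group]
    exact horb _ (mul_mem hkN hkN)
  rw [ex, ← conj_mul, hadd _ (hXS (mem_normalizer_conj hkN huX)) _
    (hXS (mem_normalizer_conj hkN (mul_mem huX hx))), hadd _ (hXS huX) _ (hXS (mul_mem huX hx)), e1,
    hcen _ hy, hχu]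

/-- Every class of reflections meets a member of the family which moves `z`. -/
theorem exists_mover {v : G} (hv : v ∈ h.A) (hn : v ∉ h.C) : ∃ X ∈ good S, ¬ h.Big X ∧
    ∃ g ∈ normalizer (X : Set G), g * h.z * g⁻¹ ≠ h.z ∧ ∃ a ∈ h.A, a * h.p (g * h.z * g⁻¹) * a⁻¹ = v := by
  by_contra H
  push Not at H
  obtain ⟨φ, hφ, hφv, hφr⟩ := h.exists_class hv hn
  have hφ1 : φ 1 = 0 := by simpa using hφ 1 (one_mem _) 1 (one_mem _)
  have hadd : ∀ x ∈ (S : Subgroup G), ∀ y ∈ (S : Subgroup G),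
      φ (h.p (x * y)) = φ (h.p x) + φ (h.p y) := fun x hx y hy => by
    rw [h.p_hom hx hy, hφ _ (h.p_mem hx) _ (h.p_mem hy)]
  refine invariant_false h2 (fun x => φ (h.p x)) hadd ?_ (h.le hv) (by
    rw [h.p_self hv, hφv]; exact one_ne_zero)
  intro X hX k hkN hodd x hx
  have hXS := good_le hX
  by_cases hb : h.Big X
  · exact h.preserve₀ hX hk hb (χ := fun x => φ (h.p x)) (fun a ha b hb => hadd a (hXS ha) b (hXS hb))
      (fun d _ hdB => by rw [show h.p d = 1 from h.swap.q_self hdB, hφ1]) hkN hodd x hx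
  have hel := h.elementary_of_small hk hk' hX hb
  have hrot : ∀ y ∈ X, h.p y ∈ h.C → φ (h.p y) = 0 := fun y hy hc => by
    rcases h.p_invol_rot (hXS hy) (hel y hy) hc with e | e <;> rw [e]
    · exact hφ1
    · rw [← h.root_sq hk, hφ _ (h.C_le h.root_mem) _ (h.C_le h.root_mem), CharTwo.add_self_eq_zero]
  have hsame : ∀ y ∈ X, h.p y ∉ h.C → ∀ w ∈ X, h.p w ∉ h.C → φ (h.p y) = φ (h.p w) :=
    fun y hy hyc w hw hwc => by
      have := hrot (y * w) (mul_mem hy hw) (by
        rw [h.p_hom (hXS hy) (hXS hw)]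
        exact h.dih.refl_mul (h.p_mem (hXS hy)) hyc (h.p_mem (hXS hw)) hwc)
      rw [hadd y (hXS hy) w (hXS hw)] at this
      exact CharTwo.add_eq_zero.1 this
  show φ (h.p (k * x * k⁻¹)) = φ (h.p x)
  have hkx := mem_normalizer_conj hkN hx
  obtain ⟨t, ht, htc⟩ := h.exists_p_refl hX
  by_cases h0 : φ (h.p t) = 0
  · have hall : ∀ y ∈ X, φ (h.p y) = 0 := fun y hy => by
      by_cases hc : h.p y ∈ h.C
      · exact hrot y hy hc
      · rw [hsame y hy hc t ht htc, h0]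
    rw [hall _ hkx, hall x hx]
  have h1 : ∀ y ∈ X, h.p y ∉ h.C → φ (h.p y) = 1 := fun y hy hc => by
    rw [hsame y hy hc t ht htc]; exact (zmod_two _).resolve_left h0
  have hfixz : ∀ n ∈ normalizer (X : Set G), n * h.z * n⁻¹ = h.z := by
    intro n hn'
    by_contra hne
    have huX := mem_normalizer_conj hn' (h.z_mem_good hX)
    have hur := h.moved_refl hk hk' hX hel hn' hne
    obtain ⟨a, ha, e⟩ := h.exists_conj_of_parity hφ hφr (h.p_mem (hXS huX)) hur hv hn
      ((h1 _ huX hur).trans hφv.symm)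
    exact H X hX hb n hn' hne a ha e
  by_cases hc : h.p x ∈ h.C
  · rw [hrot _ hkx (h.fix_p_rot hX hk hel hkN (hfixz k hkN) hx hc), hrot x hx hc]
  · rw [h1 x hx hc]
    refine h1 _ hkx fun hp => hc ?_
    have := h.fix_p_rot hX hk hel (inv_mem hkN) (hfixz _ (inv_mem hkN)) hkx hp
    rwa [show k⁻¹ * (k * x * k⁻¹) * k⁻¹⁻¹ = x by group] at this

omit h2

variable {X : Subgroup G} (hX : X ∈ good S) (hb : ¬ h.Big X) {g : G} (hg : g ∈ normalizer (X : Set G))
  (hgz : g * h.z * g⁻¹ ≠ h.z)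
include hX hb hg hgz

/-- The core is invariant under the normalizer of `S`. -/
theorem core_normalizer {n : G} (hn : n ∈ normalizer ((S : Subgroup G) : Set G)) {x : G} (hx : x ∈ core S X) :
    n * x * n⁻¹ ∈ core S X := by
  have hle : normalizer ((S : Subgroup G) : Set G) ≤ normalizer (core S X : Set G) := by
    refine normalizer_le_of (self_mem_good S) _ (fun k hkN hodd => ?_) fun s hs => ?_
    swap
    · exact Fusion.mem_normalizer_of_forall fun y hy => by
        rw [sylCenter_comm (core_le X hy) hs.1, mul_inv_cancel_right]; exact hy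
    refine Fusion.mem_normalizer_of_forall fun y hy => ?_
    have hel := h.elementary_of_small hk hk' hX hb
    have hXS := good_le hX
    obtain ⟨v, hv, hvA, hvC⟩ := h.exists_refl_good hX
    obtain ⟨φ, hφ, hφv, hφr⟩ := h.exists_class hvA hvC
    have hvS := h.le hvA
    have hkv : k * v * k⁻¹ ∈ (S : Subgroup G) := mem_normalizer_conj hkN hvS
    have hkc : h.p (k * v * k⁻¹) ∉ h.C := fun hc => by
      have h2' : k * v * k⁻¹ * (k * v * k⁻¹) = 1 := by rw [conj_mul, hel v hv, mul_one, mul_inv_cancel]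
      have h3 := normalizer_center (inv_mem hkN) (h.mem_center_of_invol hk hk' hkv h2' hc)
      rw [show k⁻¹ * (k * v * k⁻¹) * k⁻¹⁻¹ = v by group] at h3
      have h4 := h.p_rot_of_center hk hk' h3
      rw [h.p_self hvA] at h4
      exact hvC h4
    have hφ1 : φ 1 = 0 := by simpa using hφ 1 (one_mem _) 1 (one_mem _)
    have hpar := h.preserve₀ (self_mem_good S) hk (h.big_sylow hk hk') (χ := fun y => φ (h.p y))
      (fun a ha b hb => by rw [h.p_hom ha hb, hφ _ (h.p_mem ha) _ (h.p_mem hb)])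
      (fun d _ hdB => by rw [show h.p d = 1 from h.swap.q_self hdB, hφ1]) hkN hodd v hvS
    rw [h.p_self hvA] at hpar
    obtain ⟨a, ha, e⟩ := h.exists_conj_of_parity hφ hφr (h.p_mem hkv) hkc hvA hvC hpar
    have haS := h.le ha
    have hcen : ∀ w ∈ sylCenter S, a * k * w * (a * k)⁻¹ = k * w * k⁻¹ := fun w hw => by
      rw [show a * k * w * (a * k)⁻¹ = a * (k * w * k⁻¹) * a⁻¹ by group,
        sylCenter_comm (normalizer_center hkN hw) haS, mul_inv_cancel_right]
    have hak : a * k ∈ normalizer (X : Set G) := Fusion.mem_normalizer_of_forall fun w hw => by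
      have hz' : ∀ w ∈ sylCenter S, a * k * w * (a * k)⁻¹ ∈ X := fun w hw => by
        rw [hcen w hw]; exact sylCenter_le_good hX (normalizer_center hkN hw)
      by_cases hc : h.p w ∈ h.C
      · exact hz' w (h.mem_center_of_invol hk hk' (hXS hw) (hel w hw) hc)
      have hvw : v * w ∈ sylCenter S := h.mem_center_of_invol hk hk' (hXS (mul_mem hv hw))
        (hel _ (mul_mem hv hw)) (by
          rw [h.p_hom hvS (hXS hw), h.p_self hvA]
          exact h.dih.refl_mul hvA hvC (h.p_mem (hXS hw)) hc)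
      have hav : a * k * v * (a * k)⁻¹ ∈ X := by
        rw [show a * k * v * (a * k)⁻¹ = a * (k * v * k⁻¹) * a⁻¹ by group, h.conj_of_mem_A ha hkv, e]
        exact mul_mem hv (sylCenter_le_good hX (h.B_le_center hk hk' (h.q_mem hkv)))
      have := mul_mem hav (hz' _ hvw)
      rwa [conj_mul, ← mul_assoc v, hel v hv, one_mul] at this
    rw [← hcen y (core_le X hy)]
    exact core_inv hak hy
  exact mem_normalizer_conj (hle hn) hx

include h2 in
/-- The cores coincide. -/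
theorem core_unique {X' : Subgroup G} (hX' : X' ∈ good S) (hb' : ¬ h.Big X') {g' : G}
    (hg' : g' ∈ normalizer (X' : Set G)) (hgz' : g' * h.z * g'⁻¹ ≠ h.z) {y : G} (hy : y ∈ core S X) :
    y ∈ core S X' := by
  obtain ⟨k, hkN, hodd, x₀, hx₀, hmove⟩ := h.exists_center_moved hk hk' h2
  have hel := h.elementary_of_small hk hk' hX hb
  have hel' := h.elementary_of_small hk hk' hX' hb'
  by_contra hy'
  set T := core S X ⊓ core S X' with hT
  have hq : ∀ a ∈ core S X, ∀ b ∈ core S X, h.q a = h.q b → a = b := by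
    intro a ha b hb' e
    have hm : a⁻¹ * b ∈ core S X := mul_mem (inv_mem ha) hb'
    have hc := (h.mem_center_iff hk hk').1 (core_le X hm)
    have hqe : h.q (a⁻¹ * b) = 1 := by
      rw [h.q_hom (inv_mem (core_le X ha).1) (core_le X hb').1,
        show h.q a⁻¹ = (h.q a)⁻¹ from h.swap.p_inv (core_le X ha).1, e, inv_mul_cancel]
    have := h.mem_A hc.1 hqe
    rcases hc.2 with e1 | e1 <;> rw [h.p_self this] at e1
    · exact inv_mul_eq_one.1 e1
    · exact absurd (e1 ▸ hm) (h.z_not_core hk hk' hX hel hg hgz)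
  -- the nontrivial elements of the second factor
  have hB : ∀ b ∈ h.B, b ≠ 1 → b = h.swap.z ∨ b = h.s' ∨ b = h.s' * h.swap.z := by
    intro b hb1 hb2
    have hsq : b * b = 1 := by
      have := h.q_sq hk hk' (h.le' hb1)
      rwa [show h.q b = b from h.swap.p_self hb1] at this
    rcases h.dih'.cover b hb1 with hc | hc
    · exact Or.inl ((h.swap.dih.rot_invol hc hsq).resolve_left hb2)
    · have hsb : h.s' * b * (h.s' * b) = 1 := by
        rw [mul_assoc, ← mul_assoc b, h.B_comm hk hk' hb1 h.dih'.s_mem, mul_assoc h.s' b, hsq, mul_one,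
          h.dih'.s_sq]
      rcases h.swap.dih.rot_invol hc hsb with e | e
      · refine Or.inr (Or.inl ?_)
        rw [mul_eq_one_iff_eq_inv.1 (show b * h.s' = 1 by rw [h.B_comm hk hk' hb1 h.dih'.s_mem]; exact e),
          h.dih'.s_inv]
      · refine Or.inr (Or.inr ?_)
        rw [← show h.s' * b = h.swap.z from e, ← mul_assoc, h.dih'.s_sq, one_mul]
  have hcover : ∀ {a b c d : G}, (a = h.swap.z ∨ a = h.s' ∨ a = h.s' * h.swap.z) →
      (b = h.swap.z ∨ b = h.s' ∨ b = h.s' * h.swap.z) → (c = h.swap.z ∨ c = h.s' ∨ c = h.s' * h.swap.z) →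
      (d = h.swap.z ∨ d = h.s' ∨ d = h.s' * h.swap.z) → a ≠ b → a ≠ c → b ≠ c → d = a ∨ d = b ∨ d = c := by
    rintro a b c d (rfl | rfl | rfl) (rfl | rfl | rfl) (rfl | rfl | rfl) (rfl | rfl | rfl) <;> tauto
  have hcases : ∀ a ∈ core S X, a ≠ 1 →
      h.q a = h.swap.z ∨ h.q a = h.s' ∨ h.q a = h.s' * h.swap.z := fun a ha ha1 =>
    hB _ (h.q_mem (core_le X ha).1) fun e => ha1 (hq a ha 1 (one_mem _) (e.trans h.swap.p_one.symm))
  have hfix1 := fun {a : G} (ha : a ∈ core S X) => h.core_normalizer hk hk' hX hb hg hgz hkN ha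
  have hfix2 := fun {a : G} (ha : a ∈ core S X') => h.core_normalizer hk hk' hX' hb' hg' hgz' hkN ha
  have hTfix : ∀ t ∈ T, k * t * k⁻¹ = t := by
    intro t ht
    by_contra hne
    have hkt : k * t * k⁻¹ ∈ T := ⟨hfix1 ht.1, hfix2 ht.2⟩
    have ht1 : t ≠ 1 := fun e => hne (by rw [e, mul_one, mul_inv_cancel])
    have hkt1 : k * t * k⁻¹ ≠ 1 := fun e => ht1 (conj_eq_one_iff.1 e)
    have hyt : y * t ∈ core S X := mul_mem hy ht.1
    have hytT : y * t ∉ T := fun hh => hy' (by simpa using mul_mem (mem_inf.1 hh).2 (inv_mem (mem_inf.1 ht).2))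
    have hy1 : y ≠ 1 := fun e => hy' (e ▸ one_mem _)
    have hyt1 : y * t ≠ 1 := fun e => hytT (e ▸ one_mem _)
    rcases hcover (hcases _ ht.1 ht1) (hcases _ hkt.1 hkt1) (hcases y hy hy1) (hcases _ hyt hyt1)
      (fun e => hne (hq _ ht.1 _ hkt.1 e).symm) (fun e => hy' (hq _ ht.1 _ hy e ▸ ht.2))
      (fun e => hy' (hq _ hkt.1 _ hy e ▸ hkt.2)) with e | e | e
    · refine hytT ?_
      rw [hq _ hyt _ ht.1 e]
      exact ht
    · refine hytT ?_
      rw [hq _ hyt _ hkt.1 e]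
      exact hkt
    · exact ht1 (mul_eq_left.1 (hq _ hyt _ hy e))
  have hz := h.fix_z hk hkN
  have hor : ∀ a ∈ core S X, a ∈ core S X' ∨ a * h.z ∈ core S X' := fun a ha =>
    h.core_or hk hk' hX' hel' hg' hgz' (core_le X ha)
  have hcent := centralizes_of_series ((isPGroup_good hX).to_le ((core_le X).trans (sylCenter_le_good hX)))
    (inf_le_left : T ≤ core S X) hodd hTfix fun a ha => by
      refine mem_inf.2 ⟨mul_mem (inv_mem ha) (hfix1 ha), ?_⟩
      rcases hor a ha with hc | hc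
      · exact mul_mem (inv_mem hc) (hfix2 hc)
      · have := mul_mem (inv_mem hc) (hfix2 hc)
        rwa [← conj_mul, hz, mul_inv_rev, h.dih.z_inv,
          show h.z * a⁻¹ * (k * a * k⁻¹ * h.z) = h.z * (a⁻¹ * (k * a * k⁻¹) * h.z) by group,
          h.z_central (mul_mem (inv_mem (core_le X ha).1) (core_le X (hfix1 ha)).1), ← mul_assoc,
          h.dih.z_sq, one_mul] at this
  have hall : ∀ a ∈ core S X, k * a * k⁻¹ = a := fun a ha => by
    rw [← mem_centralizer_iff.1 hcent a ha, mul_inv_cancel_right]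
  refine hmove ?_
  rcases h.core_or hk hk' hX hel hg hgz hx₀ with hc | hc
  · exact hall _ hc
  · have e := hall _ hc
    rw [← conj_mul, hz] at e
    exact mul_right_cancel e

omit hX hb hg hgz

/-- The separation in a normalized splitting. -/
theorem sep_four (hinv : ∀ n ∈ normalizer ((S : Subgroup G) : Set G), ∀ b ∈ h.B, n * b * n⁻¹ ∈ h.B)
    (hA : ∀ v ∈ h.A, v ∉ h.C → ∃ g, g * v * g⁻¹ = h.z ∧ ∀ b ∈ h.B, g * b * g⁻¹ ∈ h.B) :
    h.Sep ∧ h.swap.Sep := by
  have hsq : ∀ {x y : G}, x * x = 1 → IsConj x y → y * y = 1 := fun {x y} hx hc => by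
    obtain ⟨g, rfl⟩ := isConj_iff.1 hc
    rw [conj_mul, hx, mul_one, mul_inv_cancel]
  have hone : ∀ {y : G}, IsConj (1 : G) y → y = 1 := fun {y} hc => by
    obtain ⟨g, rfl⟩ := isConj_iff.1 hc
    rw [mul_one, mul_inv_cancel]
  constructor
  · intro x hx hx2 y hy hc
    by_cases hx1 : x = 1
    · subst hx1
      rw [hone hc]; exact h.swap.p_one
    have hxz : IsConj x h.z := by
      by_cases hxc : x ∈ h.C
      · rw [(h.dih.rot_invol hxc hx2).resolve_left hx1]
      · obtain ⟨g, hg, -⟩ := hA x hx hxc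
        exact isConj_iff.2 ⟨g, hg⟩
    have hyc : IsConj y h.z := hc.symm.trans hxz
    by_cases hpy : h.p y ∈ h.C
    · rw [h.center_eq_z hk hk' (h.mem_center_of_invol hk hk' hy (hsq hx2 hc) hpy) hyc]
      exact h.q_z
    obtain ⟨g, hg, hgB⟩ := hA _ (h.p_mem hy) hpy
    have hgq := hgB _ (h.q_mem hy)
    have e : g * y * g⁻¹ = h.z * (g * h.q y * g⁻¹) := by
      nth_rewrite 1 [(h.decomp hy).2.2]
      rw [← conj_mul, hg]
    have h3 := h.center_eq_z hk hk' (mul_mem (h.z_mem_center hk hk') (h.B_le_center hk hk' hgq))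
      ((isConj_iff.2 ⟨g, e⟩ : IsConj y _).symm.trans hyc)
    exact conj_eq_one_iff.1 (mul_eq_left.1 h3)
  · intro x hx hx2 y hy hc
    show h.p y = 1
    by_cases hx1 : x = 1
    · subst hx1
      rw [hone hc]; exact h.p_one
    have hcen := fun {w : G} (hw : w ∈ sylCenter S) (hcw : IsConj x w) => show w ∈ h.B by
      obtain ⟨n, hn, e⟩ := exists_normalizer_conj
        (fun a ha => sylCenter_comm (h.B_le_center hk hk' hx) ha) (fun a ha => sylCenter_comm hw ha) hcw
      exact e ▸ hinv n hn x hx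
    by_cases hpy : h.p y ∈ h.C
    · exact h.swap.q_self (hcen (h.mem_center_of_invol hk hk' hy (hsq hx2 hc) hpy) hc)
    exfalso
    obtain ⟨g, hg, hgB⟩ := hA _ (h.p_mem hy) hpy
    have hgq := hgB _ (h.q_mem hy)
    have e : g * y * g⁻¹ = h.z * (g * h.q y * g⁻¹) := by
      nth_rewrite 1 [(h.decomp hy).2.2]
      rw [← conj_mul, hg]
    have h3 := hcen (mul_mem (h.z_mem_center hk hk') (h.B_le_center hk hk' hgq))
      (hc.trans (isConj_iff.2 ⟨g, e⟩))
    have h4 := mul_mem h3 (inv_mem hgq)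
    rw [mul_inv_cancel_right] at h4
    exact h.dih.z_ne (h.eq_one h.z_mem h4)

include h2

/-- The twist of the first factor once the second is invariant. -/
theorem four_of_core {X₀ : Subgroup G} (hX₀ : X₀ ∈ good S) (hb₀ : ¬ h.Big X₀) {g₀ : G}
    (hg₀ : g₀ ∈ normalizer (X₀ : Set G)) (hgz₀ : g₀ * h.z * g₀⁻¹ ≠ h.z)
    (hBF : ∀ x, x ∈ h.B ↔ x ∈ core S X₀) :
    ∃ h' : Split S, h'.Sep ∧ h'.swap.Sep := by
  obtain ⟨fa, hfaB, hfa⟩ := h.exists_class_value hk hk' h.s
  obtain ⟨fb, hfbB, hfb⟩ := h.exists_class_value hk hk' (h.s * h.r)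
  obtain ⟨φ₁, hφ₁, ha1, hb1⟩ := h.dih.exists_hom 1 0
  obtain ⟨φ₂, hφ₂, ha2, hb2⟩ := h.dih.exists_hom 0 1
  have hcenB : ∀ b ∈ h.B, ∀ y ∈ (S : Subgroup G), y * b = b * y := fun b hb y hy =>
    sylCenter_comm (h.B_le_center hk hk' hb) hy
  have hBsq : ∀ b ∈ h.B, b * b = 1 := fun b hb => h.center_sq hk hk' (h.B_le_center hk hk' hb)
  have hmem : ∀ x, pw fa (φ₁ x) * pw fb (φ₂ x) ∈ h.B := fun x => mul_mem (pw_mem hfaB _) (pw_mem hfbB _)
  let t : Twist h :=
    { ν := fun x => pw fa (φ₁ x) * pw fb (φ₂ x)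
      ν_mem := fun x _ => hmem x
      ν_sq := fun x _ => hBsq _ (hmem x)
      ν_central := fun x _ y hy => hcenB _ (hmem x) y hy
      ν_mul := fun x hx y hy => by
        rw [hφ₁ x hx y hy, hφ₂ x hx y hy, pw_add (hBsq fa hfaB), pw_add (hBsq fb hfbB),
          mul_assoc (pw fa (φ₁ x)), ← mul_assoc (pw fa (φ₁ y)),
          h.B_comm hk hk' (pw_mem hfaB (φ₁ y)) (pw_mem hfbB (φ₂ x))]
        group }
  have hz : t.split.z = h.z := t.z_eq hk
  refine ⟨t.split, t.split.sep_four hk hk' ?_ ?_⟩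
  · intro n hn b hb
    exact (hBF _).2 (h.core_normalizer hk hk' hX₀ hb₀ hg₀ hgz₀ hn ((hBF b).1 hb))
  intro w hw hwn
  obtain ⟨d, hd, rfl⟩ := Twist.exists_of_mem t hw
  have hdn := (Twist.refl_iff t hd).1 hwn
  obtain ⟨X, hX, hb, g, hg, hgz, a, ha, e⟩ := h.exists_mover hk hk' h2 hd hdn
  have hu : g * h.z * g⁻¹ ∈ (S : Subgroup G) := good_le hX (mem_normalizer_conj hg (h.z_mem_good hX))
  have hur := h.moved_refl hk hk' hX (h.elementary_of_small hk hk' hX hb) hg hgz
  have hqu : h.q (g * h.z * g⁻¹) = pw fa (φ₁ d) * pw fb (φ₂ d) := by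
    obtain ⟨a', ha', e'⟩ := h.class_rep (h.p_mem hu) hur
    have c1 : φ₁ d = φ₁ (a' * h.p (g * h.z * g⁻¹) * a'⁻¹) := by
      rw [← e, h.hom_conj hφ₁ ha (h.p_mem hu), h.hom_conj hφ₁ ha' (h.p_mem hu)]
    have c2 : φ₂ d = φ₂ (a' * h.p (g * h.z * g⁻¹) * a'⁻¹) := by
      rw [← e, h.hom_conj hφ₂ ha (h.p_mem hu), h.hom_conj hφ₂ ha' (h.p_mem hu)]
    rcases e' with e' | e'
    · rw [hfa X hX hb g hg hgz a' ha' e', c1, c2, e', ha1, ha2]; simp [pw]
    · rw [hfb X hX hb g hg hgz a' ha' e', c1, c2, e', hb1, hb2]; simp [pw]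
  refine ⟨g⁻¹ * a⁻¹, ?_, ?_⟩
  · rw [hz]
    show g⁻¹ * a⁻¹ * (d * (pw fa (φ₁ d) * pw fb (φ₂ d))) * (g⁻¹ * a⁻¹)⁻¹ = h.z
    rw [← hqu, ← e, ← h.conj_of_mem_A ha hu]
    group
  · intro b hb'
    show g⁻¹ * a⁻¹ * b * (g⁻¹ * a⁻¹)⁻¹ ∈ h.B
    have hbF : b ∈ core S X := h.core_unique hk hk' h2 hX₀ hb₀ hg₀ hgz₀ hX hb hg hgz ((hBF b).1 hb')
    rw [show g⁻¹ * a⁻¹ * b * (g⁻¹ * a⁻¹)⁻¹ = g⁻¹ * (a⁻¹ * b * a⁻¹⁻¹) * g⁻¹⁻¹ by group,
      hcenB b hb' a⁻¹ (inv_mem (h.le ha)), mul_inv_cancel_right]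
    exact (hBF _).2 (h.core_unique hk hk' h2 hX hb hg hgz hX₀ hb₀ hg₀ hgz₀ (core_inv (inv_mem hg) hbF))

/-- The fusion of involutions is separated for a suitable splitting. -/
theorem four : ∃ h' : Split S, h'.Sep ∧ h'.swap.Sep := by
  classical
  obtain ⟨X, hX, hb, g, hg, hgz, -⟩ := h.exists_mover hk hk' h2 h.dih.s_mem h.dih.s_not
  have hel := h.elementary_of_small hk hk' hX hb
  have hzn := h.z_not_core hk hk' hX hel hg hgz
  set ψ : G → ZMod 2 := fun b => if b ∈ core S X then 0 else 1 with hψ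
  have hor : ∀ b ∈ h.B, b ∈ core S X ∨ b * h.z ∈ core S X := fun b hb' =>
    h.core_or hk hk' hX hel hg hgz (h.B_le_center hk hk' hb')
  have hexcl : ∀ {b : G}, b ∈ core S X → b * h.z ∉ core S X := fun {b} h1 h3 =>
    hzn (by simpa using mul_mem (inv_mem h1) h3)
  have hψadd : ∀ x ∈ h.swap.A, ∀ y ∈ h.swap.A, ψ (x * y) = ψ x + ψ y := by
    intro x hx y hy
    simp only [hψ]
    have hxy : h.z * y = y * h.z := (h.z_central (h.le' hy)).symm
    by_cases h1 : x ∈ core S X <;> by_cases h3 : y ∈ core S X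
    · rw [if_pos h1, if_pos h3, if_pos (mul_mem h1 h3), add_zero]
    · rw [if_pos h1, if_neg h3, if_neg fun hh => h3 (by simpa using mul_mem (inv_mem h1) hh), zero_add]
    · rw [if_neg h1, if_pos h3, if_neg fun hh => h1 (by simpa using mul_mem hh (inv_mem h3)), add_zero]
    · have h5 : x * y ∈ core S X := by
        have := mul_mem ((hor x hx).resolve_left h1) ((hor y hy).resolve_left h3)
        rwa [mul_assoc, ← mul_assoc h.z, hxy, mul_assoc y, h.dih.z_sq, mul_one] at this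
      rw [if_neg h1, if_neg h3, if_pos h5, CharTwo.add_self_eq_zero]
  let t : Twist h.swap := Twist.ofPw h.swap h.z_mem h.dih.z_sq (fun x hx => h.z_central hx) hψadd
  have hBF : ∀ x, x ∈ t.split.swap.B ↔ x ∈ core S X := by
    intro x
    constructor
    · intro hx
      obtain ⟨b, hb', rfl⟩ := Twist.exists_of_mem t hx
      show b * pw h.z (ψ b) ∈ core S X
      simp only [hψ]
      by_cases h1 : b ∈ core S X
      · rw [if_pos h1]; simpa [pw] using h1
      · rw [if_neg h1]; simpa [pw] using (hor b hb').resolve_left h1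
    · intro hx
      have hxS : x ∈ (S : Subgroup G) := (core_le X hx).1
      have hqB := h.q_mem hxS
      have hzq : h.z * h.q x = h.q x * h.z := h.comm h.z_mem hqB
      have e : x = h.q x * pw h.z (ψ (h.q x)) := by
        rcases ((h.mem_center_iff hk hk').1 (core_le X hx)).2 with e | e
        · have e' : x = h.q x := by conv_lhs => rw [(h.decomp hxS).2.2, e, one_mul]
          rw [e'] at hx
          simp only [hψ]
          rw [if_pos hx]; simpa [pw] using e'
        · have e' : x = h.q x * h.z := by conv_lhs => rw [(h.decomp hxS).2.2, e, hzq]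
          rw [e'] at hx
          simp only [hψ]
          rw [if_neg (fun hh => hexcl hh hx)]
          simpa [pw] using e'
      rw [e]
      exact t.mem_range hqB
  exact t.split.swap.four_of_core hk hk' h2 hX hb hg hgz hBF

end Split

end CfsgLib.ProductFusion
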