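import Cfsg.Agent.Lib.Techniques.AlperinGoldschmidtCore
import Cfsg.Agent.Lib.Fusion.J2Simple.Frattini
import Cfsg.Agent.Lib.Fusion.CentralLift.Key

/-!
Elements of a Sylow 2-subgroup forced into a subgroup of the Alperin-Goldschmidt family.
-/

set_option autoImplicit false
set_option linter.unusedSectionVars false
set_option linter.style.haveILetI false

namespace CfsgLib.ProductFusion

open Subgroup Cfsg
open CfsgLib.Techniques.AlperinGoldschmidtCore (good)
open CfsgLib.Fusion.J2Simple.FrattTools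
open scoped commutatorElement

variable {G : Type*} [Group G] [Finite G]

/-- The Frattini subgroup of a subgroup, inside the ambient group. -/
def phi (X : Subgroup G) : Subgroup G := (frattini ↥X).map X.subtype

theorem phi_le (X : Subgroup G) : phi X ≤ X := map_subtype_le _

theorem sq_mem_phi {X : Subgroup G} (hX : IsPGroup 2 X) {x : G} (hx : x ∈ X) : x * x ∈ phi X := by
  haveI : Fact (Nat.Prime 2) := ⟨Nat.prime_two⟩
  exact ⟨⟨x, hx⟩ ^ 2, PGroup.pow_mem_frattini hX _, by simp [pow_two]⟩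

theorem comm_mem_phi {X : Subgroup G} (hX : IsPGroup 2 X) {x y : G} (hx : x ∈ X) (hy : y ∈ X) :
    x * y * x⁻¹ * y⁻¹ ∈ phi X := by
  haveI : Fact (Nat.Prime 2) := ⟨Nat.prime_two⟩
  refine ⟨⁅(⟨x, hx⟩ : ↥X), (⟨y, hy⟩ : ↥X)⁆, PGroup.commutator_le_frattini hX ?_, ?_⟩
  · rw [_root_.commutator_def]
    exact commutator_mem_commutator (mem_top _) (mem_top _)
  · simp [commutatorElement_def]

theorem pow_conj_of_series {k x w : G} (e : k * x * k⁻¹ = x * w) (hkw : k * w * k⁻¹ = w) :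
    ∀ n : ℕ, k ^ n * x * (k ^ n)⁻¹ = x * w ^ n
  | 0 => by simp
  | n + 1 => by
    rw [pow_succ', mul_inv_rev, show k * k ^ n * x * ((k ^ n)⁻¹ * k⁻¹) = k * (k ^ n * x * (k ^ n)⁻¹) * k⁻¹ by group,
      pow_conj_of_series e hkw n, show k * (x * w ^ n) * k⁻¹ = (k * x * k⁻¹) * (k * w ^ n * k⁻¹) by group, e,
      ← conj_pow, hkw, mul_assoc, ← pow_succ']

/-- An element of odd order stabilizing a series of length two centralizes. -/
theorem centralizes_of_series {X M : Subgroup G} (hX : IsPGroup 2 X) (hM : M ≤ X) {k : G}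
    (hk : Odd (orderOf k)) (hfix : ∀ m ∈ M, k * m * k⁻¹ = m)
    (hser : ∀ x ∈ X, x⁻¹ * (k * x * k⁻¹) ∈ M) : k ∈ centralizer (X : Set G) := by
  refine mem_centralizer_iff.2 fun x hx => ?_
  have hw := hser x hx
  set w := x⁻¹ * (k * x * k⁻¹) with hwdef
  have e : k * x * k⁻¹ = x * w := by rw [hwdef, mul_inv_cancel_left]
  have h1 := pow_conj_of_series e (hfix _ hw) (orderOf k)
  rw [pow_orderOf_eq_one, one_mul, inv_one, mul_one, left_eq_mul] at h1
  obtain ⟨n, hn⟩ := hX ⟨w, hM hw⟩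
  have h2 : w ^ 2 ^ n = 1 := by simpa using congrArg Subtype.val hn
  have h3 : w = 1 := orderOf_eq_one_iff.1 (Nat.eq_one_of_dvd_coprimes
    ((Nat.coprime_two_left.2 hk).pow_left n) (orderOf_dvd_of_pow_eq_one h2) (orderOf_dvd_of_pow_eq_one h1))
  rw [h3, mul_one, mul_inv_eq_iff_eq_mul] at e
  exact e.symm

/-- An element of odd order fixing the involutions of an abelian 2-subgroup centralizes it. -/
theorem centralizes_of_omega {A : Subgroup G} (hA : IsPGroup 2 A) (hab : ∀ a ∈ A, ∀ b ∈ A, a * b = b * a)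
    {k : G} (hkA : ∀ a ∈ A, k * a * k⁻¹ ∈ A) (hk : Odd (orderOf k))
    (hfix : ∀ a ∈ A, a * a = 1 → k * a * k⁻¹ = a) : k ∈ centralizer (A : Set G) := by
  refine mem_centralizer_iff.2 fun a ha => ?_
  suffices H : ∀ n : ℕ, ∀ a ∈ A, a ^ 2 ^ n = 1 → k * a * k⁻¹ = a by
    obtain ⟨n, hn⟩ := hA ⟨a, ha⟩
    exact (mul_inv_eq_iff_eq_mul.1 (H n a ha (by simpa using congrArg Subtype.val hn))).symm
  intro n
  induction n with
  | zero => intro a _ e; rw [pow_zero, pow_one] at e; simp [e]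
  | succ n ih =>
    intro a ha e
    have h1 : k * (a * a) * k⁻¹ = a * a := ih (a * a) (mul_mem ha ha)
      (by rwa [← pow_two, ← pow_mul, ← pow_succ'])
    set w := a⁻¹ * (k * a * k⁻¹) with hw
    have hwA : w ∈ A := mul_mem (inv_mem ha) (hkA a ha)
    have hw2 : w * w = 1 := by
      have hc := hab _ (inv_mem ha) _ (hkA a ha)
      calc w * w = a⁻¹ * (k * a * k⁻¹ * a⁻¹) * (k * a * k⁻¹) := by rw [hw]; group
        _ = a⁻¹ * (a⁻¹ * (k * a * k⁻¹)) * (k * a * k⁻¹) := by rw [hc]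
        _ = (a * a)⁻¹ * (k * (a * a) * k⁻¹) := by group
        _ = 1 := by rw [h1, inv_mul_cancel]
    have e2 : k * a * k⁻¹ = a * w := by rw [hw, mul_inv_cancel_left]
    have h3 := pow_conj_of_series e2 (hfix w hwA hw2) (orderOf k)
    rw [pow_orderOf_eq_one, one_mul, inv_one, mul_one, left_eq_mul] at h3
    obtain ⟨j, hj⟩ := hk
    rw [hj, pow_succ, pow_mul, pow_two, hw2, one_pow, one_mul] at h3
    rw [e2, h3, mul_one]

theorem mem_normalizer_conj {X : Subgroup G} {g x : G} (hg : g ∈ normalizer (X : Set G)) (hx : x ∈ X) :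
    g * x * g⁻¹ ∈ X := (mem_normalizer_iff.1 hg x).1 hx

/-- The elements of the normalizer trivial modulo the Frattini subgroup. -/
noncomputable def frattKer (X : Subgroup G) : Subgroup G :=
  ((frattiniHom ↥X).ker.comap X.normalizerMonoidHom).map (normalizer (X : Set G)).subtype

theorem mem_frattKer {X : Subgroup G} {g : G} :
    g ∈ frattKer X ↔ g ∈ normalizer (X : Set G) ∧ ∀ x ∈ X, x⁻¹ * (g * x * g⁻¹) ∈ phi X := by
  constructor
  · rintro ⟨n, hn, rfl⟩
    refine ⟨n.2, fun x hx => ⟨_, mem_ker_frattiniHom.1 hn ⟨x, hx⟩, rfl⟩⟩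
  · rintro ⟨hg, hphi⟩
    refine ⟨⟨g, hg⟩, mem_ker_frattiniHom.2 fun x => ?_, rfl⟩
    obtain ⟨y, hy, e⟩ := hphi x x.2
    exact (Subtype.ext e : y = x⁻¹ * X.normalizerMonoidHom ⟨g, hg⟩ x) ▸ hy

theorem centralizes_of_frattini {X : Subgroup G} (hX : IsPGroup 2 X) {k : G} (hk : k ∈ normalizer (X : Set G))
    (hodd : Odd (orderOf k)) (hphi : ∀ x ∈ X, x⁻¹ * (k * x * k⁻¹) ∈ phi X) : k ∈ centralizer (X : Set G) := by
  haveI : Fact (Nat.Prime 2) := ⟨Nat.prime_two⟩
  obtain ⟨n, hn, e⟩ := mem_frattKer.2 ⟨hk, hphi⟩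
  have h1 : X.normalizerMonoidHom n = 1 := Fusion.CentralLift.eq_one_of_coprime_of_pow_mem
    (isPGroup_ker_frattiniHom hX) hn (Nat.coprime_two_right.2 (Odd.of_dvd_nat hodd (by
      rw [← e]; exact (orderOf_map_dvd _ n).trans (dvd_of_eq (orderOf_coe n).symm))))
  refine mem_centralizer_iff.2 fun x hx => ?_
  have h2 := congrArg Subtype.val (DFunLike.congr_fun h1 ⟨x, hx⟩)
  have h3 : k * x * k⁻¹ = x := by rw [← e]; exact h2
  exact (mul_inv_eq_iff_eq_mul.1 h3).symm

variable {S : Sylow 2 G} {X : Subgroup G}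

theorem good_le (hX : X ∈ good S) : X ≤ (S : Subgroup G) := hX.1

theorem isPGroup_good (hX : X ∈ good S) : IsPGroup 2 X := S.2.to_le hX.1

/-- The basic consequence of radicality. -/
theorem inter_le (hX : X ∈ good S) (K : Subgroup G) (hKN : K ≤ normalizer (X : Set G))
    (hNK : normalizer (X : Set G) ≤ normalizer (K : Set G))
    (hodd : ∀ k ∈ K, Odd (orderOf k) → k ∈ centralizer (X : Set G)) : (S : Subgroup G) ⊓ K ≤ X := by
  classical
  haveI : Fact (Nat.Prime 2) := ⟨Nat.prime_two⟩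
  obtain ⟨hXS, -, hC, hdp⟩ := hX
  set N := normalizer (X : Set G) with hN
  set O := pPrimeCore 2 ↥N with hO
  set M := pPrimePCore 2 ↥N with hM
  set K' := K.subgroupOf N with hK'
  haveI : K'.Normal := (normal_subgroupOf_iff_le_normalizer hKN).2 hNK
  have hXp : IsPGroup 2 ↥((X.subgroupOf N).map (QuotientGroup.mk' O)) := ((S.2.to_le hXS).comap_subtype).map _
  have h2 : IsPGroup 2 ↥(K'.map (QuotientGroup.mk' O)) := by
    rintro ⟨_, k, hk, rfl⟩
    obtain ⟨n, hn, e, he⟩ := Fusion.CentralLift.exists_pPrime_part 2 (k : G)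
    have hkn : ((k : G) ^ n) ∈ centralizer (X : Set G) :=
      hodd _ (pow_mem hk n) (Nat.coprime_two_right.1 hn)
    obtain ⟨m, hm, hmk⟩ := hC hkn
    have hmk' : m = k ^ n := Subtype.ext (by simpa using hmk)
    obtain ⟨o, ho, x, hx, hox⟩ : ∃ o ∈ O.map N.subtype, ∃ x ∈ X, (k : G) ^ n = o * x :=
      Solvable.exists_mul_of_mem_sup (fun x hx => centralizer_le_normalizer _
        (mem_centralizer_iff.2 fun o ho => hdp.2.2.1 o ho x hx)) (hdp.2.2.2.2 ▸ hC hkn)
    obtain ⟨o, ho, rfl⟩ := ho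
    have hq : QuotientGroup.mk' O (k ^ n) ∈ (X.subgroupOf N).map (QuotientGroup.mk' O) :=
      ⟨⟨x, le_normalizer hx⟩, hx, by
        rw [show k ^ n = o * ⟨x, le_normalizer hx⟩ from Subtype.ext (by simpa using hox), map_mul,
          show QuotientGroup.mk' O o = 1 from (QuotientGroup.eq_one_iff (N := O) o).2 ho, one_mul]⟩
    have hq1 : QuotientGroup.mk' O (k ^ n) = 1 := Fusion.CentralLift.eq_one_of_coprime_of_pow_mem hXp hq
      (hn.coprime_dvd_left ((orderOf_map_dvd _ _).trans (dvd_of_eq (by rw [← orderOf_coe, SubmonoidClass.coe_pow]))))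
    refine ⟨e, Subtype.ext ?_⟩
    have he' : ((k ^ n)⁻¹ * k) ^ 2 ^ e = 1 := Subtype.ext (by simpa using he)
    have h := congrArg (QuotientGroup.mk' O) he'
    rw [map_pow, map_mul, map_inv, hq1, inv_one, one_mul, map_one] at h
    simpa using h
  have hKM : K' ≤ M := fun k hk =>
    Cores.le_pCore (N := K'.map (QuotientGroup.mk' O))
      (hn := Normal.map inferInstance _ (QuotientGroup.mk'_surjective O)) h2 ⟨k, hk, rfl⟩
  rintro y ⟨hyS, hyK⟩
  have hyM : y ∈ O.map N.subtype ⊔ X := hdp.2.2.2.2.symm ▸ ⟨⟨y, hKN hyK⟩, hKM hyK, rfl⟩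
  obtain ⟨o, ho, x, hx, rfl⟩ := Solvable.exists_mul_of_mem_sup (fun x hx => centralizer_le_normalizer _
    (mem_centralizer_iff.2 fun o ho => hdp.2.2.1 o ho x hx)) hyM
  have hoS : o ∈ (S : Subgroup G) := by simpa using (S : Subgroup G).mul_mem hyS ((S : Subgroup G).inv_mem (hXS hx))
  have h1 : orderOf o ∣ Nat.card ↥(O.map N.subtype) := Subgroup.orderOf_dvd_natCard _ ho
  rw [card_map_of_injective N.subtype_injective] at h1
  obtain ⟨j, hj⟩ := IsPGroup.iff_orderOf.1 S.2 ⟨o, hoS⟩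
  rw [orderOf_mk] at hj
  have ho1 : o = 1 := orderOf_eq_one_iff.1 (Nat.eq_one_of_dvd_coprimes
    (Nat.Coprime.pow_left j (Cores.coprime_card_pPrimeCore 2).symm) (dvd_of_eq hj) h1)
  rw [ho1, one_mul]
  exact hx

theorem normalizer_le_frattKer (X : Subgroup G) :
    normalizer (X : Set G) ≤ normalizer (frattKer X : Set G) := by
  have hK : ((frattiniHom ↥X).ker.comap X.normalizerMonoidHom).Normal :=
    (MonoidHom.normal_ker (frattiniHom ↥X)).comap _
  unfold frattKer
  generalize (frattiniHom ↥X).ker.comap X.normalizerMonoidHom = K at hK ⊢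
  intro g hg
  refine Fusion.mem_normalizer_of_forall fun m hm => ?_
  obtain ⟨n, hn, rfl⟩ := Subgroup.mem_map.1 hm
  refine Subgroup.mem_map.2 ⟨⟨g, hg⟩ * n * ⟨g, hg⟩⁻¹, hK.conj_mem n hn _, ?_⟩
  simp

theorem mem_of_frattini (hX : X ∈ good S) {y : G} (hy : y ∈ (S : Subgroup G))
    (h : ∀ x ∈ X, x⁻¹ * (y * x * y⁻¹) ∈ phi X) : y ∈ X := by
  have hyN : y ∈ normalizer (X : Set G) := Fusion.mem_normalizer_of_forall fun x hx => by
    have := mul_mem hx (phi_le X (h x hx))
    rwa [mul_inv_cancel_left] at this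
  refine inter_le hX (frattKer X) (fun g hg => (mem_frattKer.1 hg).1) (normalizer_le_frattKer X)
    (fun k hk hodd => centralizes_of_frattini (isPGroup_good hX) (mem_frattKer.1 hk).1 hodd (mem_frattKer.1 hk).2)
    ⟨hy, mem_frattKer.2 ⟨hyN, h⟩⟩

theorem mem_of_centralizes (hX : X ∈ good S) {y : G} (hy : y ∈ (S : Subgroup G))
    (h : ∀ x ∈ X, y * x = x * y) : y ∈ X :=
  mem_of_frattini hX hy fun x hx => by rw [h x hx, mul_inv_cancel_right, inv_mul_cancel]; exact one_mem _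

theorem eq_sylow_of_odd_central (hX : X ∈ good S)
    (h : ∀ k ∈ normalizer (X : Set G), Odd (orderOf k) → k ∈ centralizer (X : Set G)) : X = S := by
  haveI : Fact (Nat.Prime 2) := ⟨Nat.prime_two⟩
  refine eq_of_le_of_not_lt hX.1 fun hlt => ?_
  exact (Techniques.Functor.lt_norm S.2 hlt).not_ge (inter_le hX _ le_rfl le_normalizer h)

/-- A subgroup containing the elements of odd order and the Sylow part of the normalizer. -/
theorem normalizer_le_of (hX : X ∈ good S) (L : Subgroup G)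
    (hodd : ∀ k ∈ normalizer (X : Set G), Odd (orderOf k) → k ∈ L)
    (hS : (S : Subgroup G) ⊓ normalizer (X : Set G) ≤ L) : normalizer (X : Set G) ≤ L := by
  haveI : Fact (Nat.Prime 2) := ⟨Nat.prime_two⟩
  set N := normalizer (X : Set G)
  rw [← relIndex_eq_one]
  by_contra hne
  obtain ⟨p, hp, hdvd⟩ := Nat.exists_prime_and_dvd hne
  haveI := Fact.mk hp
  rcases eq_or_ne p 2 with rfl | hp2
  · exact hX.2.1 (hdvd.trans (relIndex_dvd_of_le_left _ hS))
  · obtain ⟨P⟩ : Nonempty (Sylow p ↥N) := inferInstance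
    have hle : (P : Subgroup ↥N) ≤ L.subgroupOf N := fun x hx => by
      refine hodd (x : G) x.2 ?_
      rw [orderOf_coe]
      obtain ⟨j, hj⟩ := IsPGroup.iff_orderOf.1 P.2 ⟨x, hx⟩
      rw [orderOf_mk] at hj
      rw [hj]
      exact (hp.odd_of_ne_two hp2).pow
    exact P.not_dvd_index (hdvd.trans (index_dvd_of_le hle))

end CfsgLib.ProductFusion
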