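import Cfsg.Agent.Lib.ProductFusion.Split
import Cfsg.Agent.Lib.ProductFusion.Radical

/-!
The members of the Alperin-Goldschmidt family are products of their intersections with the factors.
-/

set_option autoImplicit false
set_option linter.unusedSectionVars false

namespace CfsgLib.ProductFusion

open Subgroup Cfsg
open CfsgLib.Techniques.AlperinGoldschmidtCore (good)

variable {G : Type*} [Group G] [Finite G]

/-- An element of odd order exchanges no two elements. -/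
theorem eq_of_odd_swap {k a b : G} (hk : Odd (orderOf k)) (h1 : k * a * k⁻¹ = b) (h2 : k * b * k⁻¹ = a) :
    a = b := by
  have H : ∀ j : ℕ, k ^ (2 * j) * a * (k ^ (2 * j))⁻¹ = a := by
    intro j
    induction j with
    | zero => simp
    | succ j ih =>
      calc k ^ (2 * (j + 1)) * a * (k ^ (2 * (j + 1)))⁻¹
          = k * (k * (k ^ (2 * j) * a * (k ^ (2 * j))⁻¹) * k⁻¹) * k⁻¹ := by
            rw [show 2 * (j + 1) = 2 * j + 1 + 1 by ring, pow_succ', pow_succ']; group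
        _ = a := by rw [ih, h1, h2]
  obtain ⟨j, hj⟩ := hk
  calc a = k ^ orderOf k * a * (k ^ orderOf k)⁻¹ := by simp [pow_orderOf_eq_one]
    _ = k * (k ^ (2 * j) * a * (k ^ (2 * j))⁻¹) * k⁻¹ := by rw [hj, pow_succ']; group
    _ = b := by rw [H, h1]

theorem conj_injective {k a b : G} (e : k * a * k⁻¹ = k * b * k⁻¹) : a = b :=
  mul_left_cancel (mul_right_cancel e)

variable {S : Sylow 2 G} (h : Split S) {X : Subgroup G} (hX : X ∈ good S)
include hX

theorem Split.z_mem_good : h.z ∈ X :=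
  mem_of_centralizes hX h.z_mem_sylow fun _ hx => (h.z_central (good_le hX hx)).symm

theorem Split.exists_p_refl : ∃ x ∈ X, h.p x ∉ h.C := by
  by_contra H
  push Not at H
  have hr : ∀ c ∈ h.C, c ∈ X := fun c hc => mem_of_centralizes hX (h.le (h.C_le hc)) fun x hx =>
    h.commutes_A (h.C_le hc) (good_le hX hx) (h.dih.rot_comm hc (H x hx))
  have hs : h.s ∈ X := by
    refine mem_of_frattini hX (h.le h.dih.s_mem) fun x hx => ?_
    have hxS := good_le hX hx
    have e : x⁻¹ * (h.s * x * h.s⁻¹) = (h.p x)⁻¹ * (h.p x)⁻¹ := by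
      rw [h.conj_of_mem_A h.dih.s_mem hxS, h.dih.s_conj_rot (H x hx)]
      nth_rewrite 1 [(h.decomp hxS).2.2]
      rw [h.comm (inv_mem (h.p_mem hxS)) (h.q_mem hxS), h.comm (h.p_mem hxS) (h.q_mem hxS)]
      group
    rw [e]
    exact sq_mem_phi (isPGroup_good hX) (inv_mem (hr _ (H x hx)))
  have := H h.s hs
  rw [h.p_self h.dih.s_mem] at this
  exact h.dih.s_not this

theorem Split.frattini_p (hsq : ∀ x ∈ X, h.p x ∈ h.C → h.p x * h.p x ∈ phi X) {t : G} (ht : t ∈ X) :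
    h.p t ∈ X := by
  have htS := good_le hX ht
  refine mem_of_frattini hX (h.le (h.p_mem htS)) fun x hx => ?_
  have hxS := good_le hX hx
  have e : x⁻¹ * (h.p t * x * (h.p t)⁻¹) = (h.p x)⁻¹ * h.p t * (h.p x)⁻¹⁻¹ * (h.p t)⁻¹ := by
    rw [h.conj_of_mem_A (h.p_mem htS) hxS]
    nth_rewrite 1 [(h.decomp hxS).2.2]
    set w := h.p t * h.p x * (h.p t)⁻¹ with hw
    have hwA : w ∈ h.A := mul_mem (mul_mem (h.p_mem htS) (h.p_mem hxS)) (inv_mem (h.p_mem htS))
    rw [h.comm hwA (h.q_mem hxS), h.comm (h.p_mem hxS) (h.q_mem hxS), hw]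
    group
  rw [e]
  have hxi : h.p x⁻¹ = (h.p x)⁻¹ := h.p_inv hxS
  rcases h.dih.comm_cases (inv_mem (h.p_mem hxS)) (h.p_mem htS) with e1 | ⟨hc, e1⟩ | ⟨hc, e1⟩ | ⟨hc, e1⟩
  · rw [e1]; exact one_mem _
  · rw [e1]; exact inv_mem (hsq t ht hc)
  · rw [e1, ← hxi]; exact hsq _ (inv_mem hx) (hxi ▸ hc)
  · rw [e1, ← hxi, ← h.p_hom (inv_mem hxS) htS]
    exact hsq _ (mul_mem (inv_mem hx) ht) (by rw [h.p_hom (inv_mem hxS) htS, hxi]; exact hc)

theorem Split.sq_of_full {a : G} (ha : a ∈ X) (ha1 : h.p a ∉ h.C) (ha2 : h.q a ∈ h.swap.C) {x : G}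
    (hx : x ∈ X) (hc : h.p x ∈ h.C) : h.p x * h.p x ∈ phi X := by
  have haS := good_le hX ha
  have hxS := good_le hX hx
  have hP := isPGroup_good hX
  set w := a * x * a⁻¹ * x⁻¹ with hw
  have hwX : w ∈ phi X := comm_mem_phi hP ha hx
  have hwS : w ∈ (S : Subgroup G) := good_le hX (phi_le X hwX)
  have hcS : h.p x * h.p x ∈ (S : Subgroup G) := h.le (mul_mem (h.p_mem hxS) (h.p_mem hxS))
  have hpw : h.p w = (h.p x * h.p x)⁻¹ := by
    rw [hw, h.p_hom (mul_mem (mul_mem haS hxS) (inv_mem haS)) (inv_mem hxS), h.p_conj haS hxS, h.p_inv hxS,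
      h.dih.refl_conj (h.p_mem haS) ha1 hc]
    group
  have hpc : h.p (h.p x * h.p x) = h.p x * h.p x := h.p_self (mul_mem (h.p_mem hxS) (h.p_mem hxS))
  have hqc : h.q (h.p x * h.p x) = 1 := h.q_self (mul_mem (h.p_mem hxS) (h.p_mem hxS))
  have hqw : h.q w = h.q a * h.q x * (h.q a)⁻¹ * (h.q x)⁻¹ := by
    rw [hw, h.q_hom (mul_mem (mul_mem haS hxS) (inv_mem haS)) (inv_mem hxS), h.q_conj haS hxS]
    exact congrArg _ (h.swap.p_inv hxS)
  by_cases hd : h.q x ∈ h.swap.C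
  · have e : h.p x * h.p x = w⁻¹ := by
      refine h.ext hcS (inv_mem hwS) ?_ ?_
      · rw [hpc, h.p_inv hwS, hpw, inv_inv]
      · rw [hqc, show h.q w⁻¹ = (h.q w)⁻¹ from h.swap.p_inv hwS, hqw, h.swap.dih.rot_comm ha2 hd]; group
    rw [e]; exact inv_mem hwX
  · have hsq : a * a ∈ phi X := sq_mem_phi hP ha
    have e : h.p x * h.p x = a * a * w⁻¹ := by
      refine h.ext hcS (mul_mem (mul_mem haS haS) (inv_mem hwS)) ?_ ?_
      · rw [hpc, h.p_hom (mul_mem haS haS) (inv_mem hwS), h.p_hom haS haS, h.p_inv hwS, hpw, inv_inv,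
          h.dih.refl_sq (h.p_mem haS) ha1, one_mul]
      · have h3 := h.swap.dih.refl_conj (h.q_mem hxS) hd (inv_mem ha2)
        rw [inv_inv] at h3
        rw [hqc, h.q_hom (mul_mem haS haS) (inv_mem hwS), h.q_hom haS haS,
          show h.q w⁻¹ = (h.q w)⁻¹ from h.swap.p_inv hwS, hqw,
          show h.q a * h.q x * (h.q a)⁻¹ * (h.q x)⁻¹ = h.q a * (h.q x * (h.q a)⁻¹ * (h.q x)⁻¹) by group, h3]
        group
    rw [e]; exact mul_mem hsq (inv_mem hwX)

theorem Split.diag_false (hd : ∀ x ∈ X, h.p x ∈ h.C ↔ h.q x ∈ h.swap.C) : False := by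
  obtain ⟨t, ht, htp⟩ := h.exists_p_refl hX
  have hP := isPGroup_good hX
  suffices H : ∀ x ∈ X, h.p x ∈ h.C → h.p x * h.p x ∈ phi X by
    have h1 := h.frattini_p hX H ht
    have hA := h.p_mem (good_le hX ht)
    have h2 := (hd _ h1).2 (by rw [h.q_self hA]; exact one_mem _)
    rw [h.p_self hA] at h2
    exact htp h2
  intro x₀ hx₀ hc₀
  let B : Subgroup G :=
    { carrier := {x | x ∈ X ∧ h.p x ∈ h.C}
      mul_mem' := fun {a b} ha hb => ⟨mul_mem ha.1 hb.1,
        by rw [h.p_hom (good_le hX ha.1) (good_le hX hb.1)]; exact mul_mem ha.2 hb.2⟩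
      one_mem' := ⟨one_mem _, by rw [h.p_one]; exact one_mem _⟩
      inv_mem' := fun {a} ha => ⟨inv_mem ha.1, by rw [h.p_inv (good_le hX ha.1)]; exact inv_mem ha.2⟩ }
  have hBX : B ≤ X := fun x hx => hx.1
  have hBq : ∀ x ∈ B, h.q x ∈ h.swap.C := fun x hx => (hd x hx.1).1 hx.2
  have hab : ∀ a ∈ B, ∀ b ∈ B, a * b = b * a := fun a ha b hb =>
    h.commutes (good_le hX ha.1) (good_le hX hb.1) (h.dih.rot_comm ha.2 hb.2)
      (h.swap.dih.rot_comm (hBq a ha) (hBq b hb))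
  have hb₀ : x₀ ∈ B := ⟨hx₀, hc₀⟩
  by_cases hel : ∀ x ∈ B, x * x = 1
  · rw [h.p_sq (good_le hX hx₀) (hel x₀ hb₀)]; exact one_mem _
  push Not at hel
  obtain ⟨b, hb, hb2⟩ := hel
  have hBsq : ∀ x ∈ X, x * x ≠ 1 → x ∈ B := fun x hx h2 => ⟨hx, by
    by_contra hn
    refine h2 (h.ext (good_le hX (mul_mem hx hx)) (one_mem _) ?_ ?_)
    · rw [h.p_hom (good_le hX hx) (good_le hX hx), h.p_one, h.dih.refl_sq (h.p_mem (good_le hX hx)) hn]
    · rw [h.q_hom (good_le hX hx) (good_le hX hx), h.swap.dih.refl_sq (h.q_mem (good_le hX hx))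
        fun hq => hn ((hd x hx).2 hq)]
      exact h.swap.p_one.symm⟩
  have hinv : ∀ n ∈ normalizer (X : Set G), ∀ x ∈ B, n * x * n⁻¹ ∈ B := by
    intro n hn
    have key : ∀ x ∈ B, x * x ≠ 1 → n * x * n⁻¹ ∈ B := fun x hx h2 =>
      hBsq _ (mem_normalizer_conj hn hx.1) fun e => h2 (conj_injective (k := n) (by
        rw [mul_one, mul_inv_cancel, ← e]; group))
    intro x hx
    by_cases h2 : x * x = 1
    · have h3 : x * b * (x * b) ≠ 1 := by
        rwa [show x * b * (x * b) = x * (b * x) * b by group, ← hab x hx b hb, ← mul_assoc, h2, one_mul]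
      have := mul_mem (key (x * b) (mul_mem hx hb) h3) (inv_mem (key b hb hb2))
      rwa [show n * (x * b) * n⁻¹ * (n * b * n⁻¹)⁻¹ = n * x * n⁻¹ by group] at this
    · exact key x hx h2
  obtain ⟨k, hk, hodd, hnc⟩ : ∃ k ∈ normalizer (X : Set G), Odd (orderOf k) ∧
      k ∉ centralizer (X : Set G) := by
    by_contra H
    push Not at H
    have hXS := eq_sylow_of_odd_central hX H
    have h1 : h.s ∈ X := hXS.symm ▸ h.le h.dih.s_mem
    have h2 := (hd _ h1).2 (by rw [h.q_self h.dih.s_mem]; exact one_mem _)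
    rw [h.p_self h.dih.s_mem] at h2
    exact h.dih.s_not h2
  obtain ⟨a, ha, ha2, hka⟩ : ∃ a ∈ B, a * a = 1 ∧ k * a * k⁻¹ ≠ a := by
    by_contra H
    push Not at H
    have hcB := centralizes_of_omega (hP.to_le hBX) hab (hinv k hk) hodd H
    refine hnc (centralizes_of_series hP hBX hodd (fun m hm => ?_) fun x hx => ?_)
    · rw [← mem_centralizer_iff.1 hcB m hm, mul_inv_cancel_right]
    · have hkx := mem_normalizer_conj hk hx
      by_cases hc : h.p x ∈ h.C
      · exact mul_mem (inv_mem ⟨hx, hc⟩) (hinv k hk x ⟨hx, hc⟩)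
      · refine ⟨mul_mem (inv_mem hx) hkx, ?_⟩
        have hn : h.p (k * x * k⁻¹) ∉ h.C := fun hh => hc (by
          have := (hinv k⁻¹ (inv_mem hk) _ ⟨hkx, hh⟩).2
          rwa [show k⁻¹ * (k * x * k⁻¹) * k⁻¹⁻¹ = x by group] at this)
        rw [h.p_hom (good_le hX (inv_mem hx)) (good_le hX hkx), h.p_inv (good_le hX hx),
          h.dih.refl_inv' (h.p_mem (good_le hX hx)) hc]
        exact h.dih.refl_mul (h.p_mem (good_le hX hx)) hc (h.p_mem (good_le hX hkx)) hn
  have ha1 : a ≠ 1 := fun e => hka (by rw [e, mul_one, mul_inv_cancel])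
  -- the three involutions
  set T : Set G := {x | x = h.z ∨ x = h.swap.z ∨ x = h.z * h.swap.z} with hT
  have hinvol : ∀ x ∈ B, x * x = 1 → x ≠ 1 → x ∈ T := fun x hx h2 h1 =>
    h.invol_rot_cases (good_le hX hx.1) h2 h1 hx.2 (hBq x hx)
  have hstep : ∀ x ∈ B, x * x = 1 → x ≠ 1 →
      k * x * k⁻¹ ∈ B ∧ k * x * k⁻¹ * (k * x * k⁻¹) = 1 ∧ k * x * k⁻¹ ≠ 1 := fun x hx h2 h1 =>
    ⟨hinv k hk x hx, by
      rw [show k * x * k⁻¹ * (k * x * k⁻¹) = k * (x * x) * k⁻¹ by group, h2, mul_one, mul_inv_cancel],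
      fun e => h1 (conj_eq_one_iff.1 e)⟩
  have hcover : ∀ {u v w x : G}, u ∈ T → v ∈ T → w ∈ T → x ∈ T → u ≠ v → u ≠ w → v ≠ w →
      x = u ∨ x = v ∨ x = w := by
    rintro u v w x (rfl | rfl | rfl) (rfl | rfl | rfl) (rfl | rfl | rfl) (rfl | rfl | rfl) <;> tauto
  have hfree : ∀ e ∈ B, e * e = 1 → e ≠ 1 → k * e * k⁻¹ ≠ e := by
    intro e he he2 he1 hfix
    obtain ⟨h1, h2, h3⟩ := hstep a ha ha2 ha1
    obtain ⟨h4, h5, h6⟩ := hstep _ h1 h2 h3
    have hne : e ≠ a := fun hh => hka (hh ▸ hfix)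
    have hne' : e ≠ k * a * k⁻¹ := fun hh => hne (conj_injective (hfix.trans hh))
    rcases hcover (hinvol e he he2 he1) (hinvol a ha ha2 ha1) (hinvol _ h1 h2 h3) (hinvol _ h4 h5 h6)
      hne hne' (Ne.symm hka) with hh | hh | hh
    · exact hne' (conj_injective (hfix.trans hh.symm))
    · exact hka (eq_of_odd_swap hodd rfl hh).symm
    · exact hka (conj_injective hh)
  have horbit : ∀ e ∈ B, e * e = 1 → e ≠ 1 → ∀ n, (∃ w ∈ B, w ^ n = e) →
      ∀ x ∈ T, ∃ w ∈ B, w ^ n = x := by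
    intro e he he2 he1 n hw x hx
    obtain ⟨w, hw, rfl⟩ := hw
    obtain ⟨h1, h2, h3⟩ := hstep _ he he2 he1
    obtain ⟨h4, h5, h6⟩ := hstep _ h1 h2 h3
    have hne := hfree _ he he2 he1
    have hne2 := hfree _ h1 h2 h3
    rcases hcover (hinvol _ he he2 he1) (hinvol _ h1 h2 h3) (hinvol _ h4 h5 h6) hx (Ne.symm hne)
      (fun hh => hne (eq_of_odd_swap hodd rfl hh.symm).symm) (Ne.symm hne2) with rfl | rfl | rfl
    · exact ⟨w, hw, rfl⟩
    · exact ⟨_, hinv k hk w hw, conj_pow⟩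
    · exact ⟨_, hinv k hk _ (hinv k hk w hw), by rw [conj_pow, conj_pow]⟩
  suffices H : ∀ n : ℕ, ∀ x ∈ B, (h.p x ^ 2 ^ n = 1 → h.p x ∈ X) ∧ (h.q x ^ 2 ^ n = 1 → h.q x ∈ X) by
    obtain ⟨n, hn⟩ := hP ⟨x₀, hx₀⟩
    refine sq_mem_phi hP ((H n x₀ hb₀).1 ?_)
    rw [← h.p_pow (good_le hX hx₀), show x₀ ^ 2 ^ n = 1 by simpa using congrArg Subtype.val hn, h.p_one]
  intro n
  induction n with
  | zero =>
    exact fun x _ => ⟨fun e => by rw [pow_zero, pow_one] at e; rw [e]; exact one_mem _,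
      fun e => by rw [pow_zero, pow_one] at e; rw [e]; exact one_mem _⟩
  | succ n ih =>
    -- a nontrivial power in one coordinate gives all the three involutions
    have hall : ∀ x ∈ B, x ^ 2 ^ n ≠ 1 → ∀ e ∈ T, ∃ w ∈ B, w ^ 2 ^ n = e := by
      intro x hx hne e he
      classical
      obtain ⟨N, hN⟩ := hP ⟨x, hx.1⟩
      have hN' : x ^ 2 ^ N = 1 := by simpa using congrArg Subtype.val hN
      have hex : ∃ m, x ^ 2 ^ (m + 1) = 1 := ⟨N, by rw [pow_succ, pow_mul, hN', one_pow]⟩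
      have hm : n ≤ Nat.find hex := by
        by_contra hlt
        obtain ⟨j, hj⟩ := Nat.exists_eq_add_of_le (Nat.lt_of_not_le hlt)
        refine hne ?_
        rw [hj, pow_add, pow_mul, show (Nat.find hex).succ = Nat.find hex + 1 from rfl,
          Nat.find_spec hex, one_pow]
      obtain ⟨j, hj⟩ := Nat.exists_eq_add_of_le hm
      have h2 : x ^ 2 ^ (n + j) * x ^ 2 ^ (n + j) = 1 := by
        rw [← pow_add, ← two_mul, ← pow_succ', ← hj]; exact Nat.find_spec hex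
      have h1 : x ^ 2 ^ (n + j) ≠ 1 := by
        rcases Nat.eq_zero_or_pos (Nat.find hex) with h0 | h0
        · obtain ⟨rfl, rfl⟩ : n = 0 ∧ j = 0 := by omega
          simpa using hne
        · intro e1
          have := Nat.find_min hex (Nat.sub_lt h0 Nat.one_pos)
          rw [Nat.sub_add_cancel h0, hj] at this
          exact this e1
      obtain ⟨w, hw, hwe⟩ := horbit _ (pow_mem hx _) h2 h1 _ ⟨x, hx, rfl⟩ e he
      exact ⟨w ^ 2 ^ j, pow_mem hw _, by rw [← pow_mul, ← pow_add, add_comm, hwe]⟩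
    intro x hx
    have hxS := good_le hX hx.1
    constructor
    · intro e
      by_cases e0 : h.p x ^ 2 ^ n = 1
      · exact (ih x hx).1 e0
      obtain ⟨w, hw, hwe⟩ := hall x hx (fun hh => e0 (by rw [← h.p_pow hxS, hh, h.p_one])) h.z (Or.inl rfl)
      have hwS := good_le hX hw.1
      have hwq : h.q w ∈ X := (ih w hw).2 (by rw [← h.swap.p_pow hwS, hwe]; exact h.q_z)
      have hwp : h.p w ∈ X := by
        have := mul_mem hw.1 (inv_mem hwq)
        nth_rewrite 1 [(h.decomp hwS).2.2] at this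
        rwa [mul_inv_cancel_right] at this
      have hz : h.p x ^ 2 ^ n = h.z := (h.dih.rot_invol (pow_mem hx.2 _)
        (by rw [← pow_add, ← two_mul, ← pow_succ', e])).resolve_left e0
      have hxw : h.p (x * w⁻¹) ^ 2 ^ n = 1 := by
        rw [h.p_hom hxS (inv_mem hwS), h.p_inv hwS,
          Commute.mul_pow (h.dih.rot_comm hx.2 (inv_mem hw.2)), inv_pow, hz, ← h.p_pow hwS, hwe, h.p_z,
          mul_inv_cancel]
      have h4 := mul_mem ((ih _ (mul_mem hx (inv_mem hw))).1 hxw) hwp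
      rwa [h.p_hom hxS (inv_mem hwS), h.p_inv hwS, inv_mul_cancel_right] at h4
    · intro e
      by_cases e0 : h.q x ^ 2 ^ n = 1
      · exact (ih x hx).2 e0
      obtain ⟨w, hw, hwe⟩ := hall x hx (fun hh => e0 (by
        rw [← h.swap.p_pow hxS, hh]; exact h.swap.p_one)) h.swap.z (Or.inr (Or.inl rfl))
      have hwS := good_le hX hw.1
      have hwp : h.p w ∈ X := (ih w hw).1 (by rw [← h.p_pow hwS, hwe]; exact h.swap.q_z)
      have hwq : h.q w ∈ X := by
        have := mul_mem (inv_mem hwp) hw.1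
        nth_rewrite 2 [(h.decomp hwS).2.2] at this
        rwa [inv_mul_cancel_left] at this
      have hz : h.q x ^ 2 ^ n = h.swap.z := (h.swap.dih.rot_invol (pow_mem (hBq x hx) _)
        (by rw [← pow_add, ← two_mul, ← pow_succ', e])).resolve_left e0
      have hxw : h.q (x * w⁻¹) ^ 2 ^ n = 1 := by
        rw [h.q_hom hxS (inv_mem hwS), show h.q w⁻¹ = (h.q w)⁻¹ from h.swap.p_inv hwS,
          Commute.mul_pow (h.swap.dih.rot_comm (hBq x hx) (inv_mem (hBq w hw))), inv_pow, hz,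
          ← h.swap.p_pow hwS, hwe, show h.swap.p h.swap.z = h.swap.z from h.swap.p_z, mul_inv_cancel]
      have h4 := mul_mem ((ih _ (mul_mem hx (inv_mem hw))).2 hxw) hwq
      rwa [h.q_hom hxS (inv_mem hwS), show h.q w⁻¹ = (h.q w)⁻¹ from h.swap.p_inv hwS,
        inv_mul_cancel_right] at h4

/-- A member of the family contains the projections of its elements. -/
theorem Split.p_mem_good {x : G} (hx : x ∈ X) : h.p x ∈ X := by
  by_cases ha : ∃ a ∈ X, h.p a ∉ h.C ∧ h.q a ∈ h.swap.C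
  · obtain ⟨a, ha, ha1, ha2⟩ := ha
    exact h.frattini_p hX (fun y hy hc => h.sq_of_full hX ha ha1 ha2 hy hc) hx
  exfalso
  push Not at ha
  refine h.diag_false hX fun y hy => ⟨fun hp => ?_, fun hq => by_contra fun hp => ha y hy hp hq⟩
  by_contra hq
  obtain ⟨t, ht, htp⟩ := h.exists_p_refl hX
  have htS := good_le hX ht
  have hyS := good_le hX hy
  have htq := ha t ht htp
  refine ha (t * y) (mul_mem ht hy) (fun hh => htp ?_) ?_
  · rw [h.p_hom htS hyS] at hh
    simpa using mul_mem hh (inv_mem hp)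
  · rw [h.q_hom htS hyS]
    exact h.swap.dih.refl_mul (h.q_mem htS) htq (h.q_mem hyS) hq

theorem Split.q_mem_good {x : G} (hx : x ∈ X) : h.q x ∈ X := h.swap.p_mem_good hX hx

theorem Split.exists_refl_good : ∃ v ∈ X, v ∈ h.A ∧ v ∉ h.C := by
  obtain ⟨x, hx, hp⟩ := h.exists_p_refl hX
  exact ⟨_, h.p_mem_good hX hx, h.p_mem (good_le hX hx), hp⟩

end CfsgLib.ProductFusion
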