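import Cfsg.Agent.Lib.ProductFusion.BothBig
import Cfsg.Agent.Lib.ProductFusion.FourMain

/-!
A Sylow 2-subgroup which is a product of two dihedral groups has, for a suitable splitting, strongly closed
factors when there is no normal subgroup of index two (product fusion).
-/

set_option autoImplicit false
set_option linter.unusedSectionVars false
set_option linter.style.haveILetI false

namespace CfsgLib.ProductFusion

open Subgroup Cfsg
open CfsgLib.Fusion (conjSub mem_conjSub)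
open CfsgLib.Techniques.AlperinGoldschmidtCore (good real)
open CfsgLib.Techniques.Functor (Fam)

variable {G : Type*} [Group G] [Finite G] {S : Sylow 2 G}

namespace Split

variable (h : Split S)

/-- The involutions of a member of the family generate its first component. -/
theorem normalizer_step (hs : h.Sep) {T : Subgroup G} (hT : T ∈ good S) {n a : G}
    (hn : n ∈ normalizer (T : Set G)) (ha : a ∈ T) (haA : a ∈ h.A) : n * a * n⁻¹ ∈ h.A := by
  have hinv : ∀ v ∈ T, v ∈ h.A → v ∉ h.C → n * v * n⁻¹ ∈ h.A := fun v hv hvA hvC =>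
    have hS := good_le hT (mem_normalizer_conj hn hv)
    h.mem_A hS (hs v hvA (h.dih.refl_sq hvA hvC) _ hS (isConj_iff.2 ⟨n, rfl⟩))
  by_cases hc : a ∈ h.C
  · obtain ⟨v, hv, hvA, hvC⟩ := h.exists_refl_good hT
    have hva : v * a ∉ h.C := fun hh => hvC (by simpa using mul_mem hh (inv_mem hc))
    have h1 := mul_mem (hinv v hv hvA hvC) (hinv _ (mul_mem hv ha) (mul_mem hvA haA) hva)
    rwa [conj_mul, ← mul_assoc v, h.dih.refl_sq hvA hvC, one_mul] at h1
  · exact hinv a ha haA hc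

theorem fam_step (hs : h.Sep) {A₀ : Subgroup G} {g : G} (hf : Fam (good S) A₀ g) :
    ∀ a ∈ A₀, a ∈ h.A → g⁻¹ * a * g ∈ h.A := by
  induction hf with
  | nil A => intro a _ ha; simpa using ha
  | @cons A T x g hT hA hx _ ih =>
    intro a ha haA
    have h1 := h.normalizer_step hs hT (inv_mem hx) (hA ha) haA
    rw [inv_inv] at h1
    have h2 := ih (x⁻¹ * a * x) (by rw [mem_conjSub]; simpa [mul_assoc] using ha) h1
    rwa [show (x * g)⁻¹ * a * (x * g) = g⁻¹ * (x⁻¹ * a * x) * g by group]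

/-- A separated first factor is strongly closed. -/
theorem isStronglyClosed (hs : h.Sep) : IsStronglyClosed h.A (S : Subgroup G) := by
  haveI : Fact (Nat.Prime 2) := ⟨Nat.prime_two⟩
  refine ⟨h.le, fun x hx g hg => ?_⟩
  obtain ⟨c, hc, hf⟩ := real S (zpowers x) (zpowers_le.2 (h.le hx)) g⁻¹ (by
    rw [inv_inv]
    intro y hy
    rw [mem_conjSub] at hy
    obtain ⟨i, hi⟩ := mem_zpowers_iff.1 hy
    have := zpow_mem hg i
    rw [conj_zpow, hi] at this
    simpa [mul_assoc] using this)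
  have := h.fam_step hs hf x (mem_zpowers x) hx
  rw [mem_centralizer_iff] at hc
  rwa [show (c⁻¹ * g⁻¹)⁻¹ * x * (c⁻¹ * g⁻¹) = g * (c * x) * c⁻¹ * g⁻¹ by group,
    ← hc x (mem_zpowers x), show g * (x * c) * c⁻¹ * g⁻¹ = g * x * g⁻¹ by group] at this

end Split

/-- A subgroup of a Sylow 2-subgroup isomorphic to a dihedral group, in terms of generators. -/
theorem exists_dih {D : Subgroup G} (hD : D ≤ (S : Subgroup G))
    (he : ∃ m : ℕ, 2 ≤ m ∧ Nonempty (↥D ≃* DihedralGroup m)) :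
    ∃ r s k, Dih D r s k ∧ Nonempty (↥D ≃* DihedralGroup (2 ^ (k + 1))) := by
  haveI : Fact (Nat.Prime 2) := ⟨Nat.prime_two⟩
  obtain ⟨m, hm, ⟨e⟩⟩ := he
  obtain ⟨n, hn⟩ := (S.2.to_le hD).exists_card_eq
  rw [Nat.card_congr e.toEquiv, DihedralGroup.nat_card] at hn
  obtain ⟨k, -, rfl⟩ := (Nat.dvd_prime_pow Nat.prime_two).1 (hn ▸ dvd_mul_left m 2 : m ∣ 2 ^ n)
  obtain ⟨k, rfl⟩ : ∃ j, k = j + 1 := ⟨k - 1, by
    rcases Nat.eq_zero_or_pos k with rfl | h0
    · simp at hm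
    · omega⟩
  haveI : NeZero (2 ^ (k + 1)) := ⟨by positivity⟩
  have hzp : ∀ i : ZMod (2 ^ (k + 1)), DihedralGroup.r i = (DihedralGroup.r 1) ^ (i.val : ℤ) := fun i => by
    rw [zpow_natCast, DihedralGroup.r_one_pow, ZMod.natCast_zmod_val]
  refine ⟨e.symm (DihedralGroup.r 1), e.symm (DihedralGroup.sr 0), k, ⟨?_, SetLike.coe_mem _, SetLike.coe_mem _,
    ?_, ?_, ?_, ?_⟩, ⟨e⟩⟩
  · rw [orderOf_coe, MulEquiv.orderOf_eq, DihedralGroup.orderOf_r_one]
  · intro hh
    obtain ⟨i, hi⟩ := mem_zpowers_iff.1 hh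
    rw [← Subgroup.coe_zpow, ← map_zpow, Subtype.coe_inj] at hi
    have h1 := e.symm.injective hi
    rw [DihedralGroup.r_zpow] at h1
    cases h1
  · rw [← Subgroup.coe_mul, ← map_mul, DihedralGroup.sr_mul_self, map_one, Subgroup.coe_one]
  · rw [← Subgroup.coe_inv, ← Subgroup.coe_inv, ← Subgroup.coe_mul, ← Subgroup.coe_mul, ← map_inv, ← map_inv,
      ← map_mul, ← map_mul]
    simp
  · intro x hx
    rcases hxe : e ⟨x, hx⟩ with i | i
    · left
      refine mem_zpowers_iff.2 ⟨i.val, ?_⟩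
      rw [← Subgroup.coe_zpow, ← map_zpow, ← hzp, ← hxe, MulEquiv.symm_apply_apply]
    · right
      refine mem_zpowers_iff.2 ⟨i.val, ?_⟩
      rw [← Subgroup.coe_zpow, ← map_zpow, ← hzp,
        show DihedralGroup.r i = DihedralGroup.sr 0 * DihedralGroup.sr i by simp, ← hxe, map_mul,
        MulEquiv.symm_apply_apply, Subgroup.coe_mul]

/-- Product fusion for a suitable splitting. -/
theorem exists_strongly_closed (h2 : ∀ N : Subgroup G, N.Normal → N.index ≠ 2)
    (hS : ¬ IsMulCommutative ↥(S : Subgroup G)) {D₁ D₂ : Subgroup G}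
    (hD : IsInternalDirectProduct D₁ D₂ (S : Subgroup G))
    (hD₁ : ∃ m : ℕ, 2 ≤ m ∧ Nonempty (↥D₁ ≃* DihedralGroup m))
    (hD₂ : ∃ m : ℕ, 2 ≤ m ∧ Nonempty (↥D₂ ≃* DihedralGroup m)) :
    ∃ h : Split S, IsStronglyClosed h.A (S : Subgroup G) ∧ IsStronglyClosed h.B (S : Subgroup G) := by
  obtain ⟨r, s, k, hd, he⟩ := exists_dih hD.1 hD₁
  obtain ⟨r', s', k', hd', he'⟩ := exists_dih hD.2.1 hD₂
  let h₀ : Split S := ⟨D₁, D₂, r, s, k, r', s', k', hd, hd', he, he', hD⟩
  obtain ⟨h, hk⟩ : ∃ h : Split S, 1 ≤ h.k := by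
    by_contra H
    push Not at H
    refine hS ⟨⟨fun a b => Subtype.ext ?_⟩⟩
    have hk : h₀.k = 0 := by have := H h₀; omega
    have hk' : h₀.k' = 0 := Nat.lt_one_iff.1 (H h₀.swap)
    exact h₀.commutes a.2 b.2 (h₀.dih.isMulCommutative_of_zero hk (h₀.p_mem a.2) (h₀.p_mem b.2))
      (h₀.dih'.isMulCommutative_of_zero hk' (h₀.q_mem a.2) (h₀.q_mem b.2))
  suffices H : ∃ h' : Split S, h'.Sep ∧ h'.swap.Sep by
    obtain ⟨h', h1, h3⟩ := H
    exact ⟨h', h'.isStronglyClosed h1, h'.swap.isStronglyClosed h3⟩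
  rcases Nat.eq_zero_or_pos h.k' with hk' | hk'
  · exact h.four hk hk' h2
  · obtain ⟨h', -, -, h1, h3⟩ := h.both_big hk hk' h2
    exact ⟨h', h1, h3⟩

end CfsgLib.ProductFusion
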