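import Cfsg.Agent.Lib.ProductFusion.Dih
import Cfsg.Agent.Lib.Solvable.Basic
import Cfsg.Prelude.Def_TwoFusion

/-!
A Sylow 2-subgroup which is the product of two dihedral groups, and its two projections.
-/

set_option autoImplicit false
set_option linter.unusedSectionVars false

namespace CfsgLib.ProductFusion

open Subgroup Cfsg

variable {G : Type*} [Group G]

/-- The component in `A` along `B`. -/
noncomputable def prj (A B : Subgroup G) (x : G) : G := Classical.epsilon fun a => a ∈ A ∧ a⁻¹ * x ∈ B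

/-- A splitting of a Sylow 2-subgroup into two dihedral groups `A` and `B`. -/
structure Split (S : Sylow 2 G) where
  A : Subgroup G
  B : Subgroup G
  r : G
  s : G
  k : ℕ
  r' : G
  s' : G
  k' : ℕ
  dih : Dih A r s k
  dih' : Dih B r' s' k'
  iso : Nonempty (↥A ≃* DihedralGroup (2 ^ (k + 1)))
  iso' : Nonempty (↥B ≃* DihedralGroup (2 ^ (k' + 1)))
  prod : IsInternalDirectProduct A B (S : Subgroup G)

namespace Split

variable {S : Sylow 2 G} (h : Split S)

/-- The same splitting with the factors exchanged. -/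
@[reducible] def swap : Split S where
  A := h.B
  B := h.A
  r := h.r'
  s := h.s'
  k := h.k'
  r' := h.r
  s' := h.s
  k' := h.k
  dih := h.dih'
  dih' := h.dih
  iso := h.iso'
  iso' := h.iso
  prod := ⟨h.prod.2.1, h.prod.1, fun a ha b hb => (h.prod.2.2.1 b hb a ha).symm,
    by rw [inf_comm]; exact h.prod.2.2.2.1, by rw [sup_comm]; exact h.prod.2.2.2.2⟩

/-- The rotations of the first factor. -/
abbrev C : Subgroup G := zpowers h.r

/-- The central involution of the first factor. -/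
abbrev z : G := h.r ^ 2 ^ h.k

/-- The projection onto the first factor. -/
noncomputable abbrev p (x : G) : G := prj h.A h.B x

/-- The projection onto the second factor. -/
noncomputable abbrev q (x : G) : G := prj h.B h.A x

theorem le : h.A ≤ (S : Subgroup G) := h.prod.1

theorem le' : h.B ≤ (S : Subgroup G) := h.prod.2.1

theorem C_le : h.C ≤ h.A := h.dih.zpowers_le'

theorem z_mem : h.z ∈ h.A := h.dih.z_mem

theorem z_mem_C : h.z ∈ h.C := h.dih.z_mem_zpowers

theorem z_mem_sylow : h.z ∈ (S : Subgroup G) := h.le h.z_mem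

theorem comm {a b : G} (ha : a ∈ h.A) (hb : b ∈ h.B) : a * b = b * a := h.prod.2.2.1 a ha b hb

theorem eq_one {a : G} (ha : a ∈ h.A) (hb : a ∈ h.B) : a = 1 := mem_bot.1 (h.prod.2.2.2.1 ▸ ⟨ha, hb⟩)

theorem exists_decomp {x : G} (hx : x ∈ (S : Subgroup G)) : ∃ a ∈ h.A, ∃ b ∈ h.B, x = a * b := by
  refine Solvable.exists_mul_of_mem_sup (fun b hb => centralizer_le_normalizer _ ?_) (h.prod.2.2.2.2 ▸ hx)
  exact mem_centralizer_iff.2 fun a ha => h.comm ha hb

theorem unique {a a' b b' : G} (ha : a ∈ h.A) (ha' : a' ∈ h.A) (hb : b ∈ h.B) (hb' : b' ∈ h.B)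
    (e : a * b = a' * b') : a = a' ∧ b = b' := by
  have e2 : a'⁻¹ * a = b' * b⁻¹ := by
    rw [eq_mul_inv_iff_mul_eq, mul_assoc, e, inv_mul_cancel_left]
  have h1 := h.eq_one (mul_mem (inv_mem ha') ha) (e2 ▸ mul_mem hb' (inv_mem hb))
  refine ⟨(inv_mul_eq_one.1 h1).symm, ?_⟩
  rw [h1, eq_comm, mul_inv_eq_one] at e2
  exact e2.symm

theorem p_mul {a b : G} (ha : a ∈ h.A) (hb : b ∈ h.B) : h.p (a * b) = a := by
  have hex : ∃ c, c ∈ h.A ∧ c⁻¹ * (a * b) ∈ h.B := ⟨a, ha, by rwa [inv_mul_cancel_left]⟩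
  obtain ⟨h1, h2⟩ := Classical.epsilon_spec hex
  exact ((h.unique ha h1 hb h2 (by rw [mul_inv_cancel_left])).1).symm

theorem q_mul {a b : G} (ha : a ∈ h.A) (hb : b ∈ h.B) : h.q (a * b) = b := by
  rw [h.comm ha hb]; exact h.swap.p_mul hb ha

theorem decomp {x : G} (hx : x ∈ (S : Subgroup G)) :
    h.p x ∈ h.A ∧ h.q x ∈ h.B ∧ x = h.p x * h.q x := by
  obtain ⟨a, ha, b, hb, rfl⟩ := h.exists_decomp hx
  rw [h.p_mul ha hb, h.q_mul ha hb]
  exact ⟨ha, hb, rfl⟩

theorem p_mem {x : G} (hx : x ∈ (S : Subgroup G)) : h.p x ∈ h.A := (h.decomp hx).1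

theorem q_mem {x : G} (hx : x ∈ (S : Subgroup G)) : h.q x ∈ h.B := (h.decomp hx).2.1

theorem p_self {a : G} (ha : a ∈ h.A) : h.p a = a := by simpa using h.p_mul ha (one_mem h.B)

theorem q_self {a : G} (ha : a ∈ h.A) : h.q a = 1 := by simpa using h.q_mul ha (one_mem h.B)

theorem p_one : h.p 1 = 1 := h.p_self (one_mem _)

theorem p_z : h.p h.z = h.z := h.p_self h.z_mem

theorem q_z : h.q h.z = 1 := h.q_self h.z_mem

theorem mem_A {x : G} (hx : x ∈ (S : Subgroup G)) (e : h.q x = 1) : x ∈ h.A := by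
  rw [(h.decomp hx).2.2, e, mul_one]; exact h.p_mem hx

theorem p_hom {x y : G} (hx : x ∈ (S : Subgroup G)) (hy : y ∈ (S : Subgroup G)) :
    h.p (x * y) = h.p x * h.p y := by
  obtain ⟨a, ha, b, hb, rfl⟩ := h.exists_decomp hx
  obtain ⟨c, hc, d, hd, rfl⟩ := h.exists_decomp hy
  rw [show a * b * (c * d) = a * c * (b * d) by
    rw [mul_assoc, ← mul_assoc b, ← h.comm hc hb, mul_assoc, ← mul_assoc a c],
    h.p_mul (mul_mem ha hc) (mul_mem hb hd), h.p_mul ha hb, h.p_mul hc hd]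

theorem q_hom {x y : G} (hx : x ∈ (S : Subgroup G)) (hy : y ∈ (S : Subgroup G)) :
    h.q (x * y) = h.q x * h.q y := h.swap.p_hom hx hy

theorem p_inv {x : G} (hx : x ∈ (S : Subgroup G)) : h.p x⁻¹ = (h.p x)⁻¹ := by
  refine eq_inv_of_mul_eq_one_left ?_
  rw [← h.p_hom (inv_mem hx) hx, inv_mul_cancel, h.p_one]

theorem p_pow {x : G} (hx : x ∈ (S : Subgroup G)) : ∀ n : ℕ, h.p (x ^ n) = h.p x ^ n
  | 0 => by rw [pow_zero, pow_zero, h.p_one]
  | n + 1 => by rw [pow_succ, h.p_hom (pow_mem hx n) hx, p_pow hx n, pow_succ]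

theorem p_conj {x y : G} (hx : x ∈ (S : Subgroup G)) (hy : y ∈ (S : Subgroup G)) :
    h.p (x * y * x⁻¹) = h.p x * h.p y * (h.p x)⁻¹ := by
  rw [h.p_hom (mul_mem hx hy) (inv_mem hx), h.p_hom hx hy, h.p_inv hx]

theorem q_conj {x y : G} (hx : x ∈ (S : Subgroup G)) (hy : y ∈ (S : Subgroup G)) :
    h.q (x * y * x⁻¹) = h.q x * h.q y * (h.q x)⁻¹ := h.swap.p_conj hx hy

theorem ext {x y : G} (hx : x ∈ (S : Subgroup G)) (hy : y ∈ (S : Subgroup G))
    (e1 : h.p x = h.p y) (e2 : h.q x = h.q y) : x = y := by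
  rw [(h.decomp hx).2.2, (h.decomp hy).2.2, e1, e2]

theorem commutes {x y : G} (hx : x ∈ (S : Subgroup G)) (hy : y ∈ (S : Subgroup G))
    (e1 : h.p x * h.p y = h.p y * h.p x) (e2 : h.q x * h.q y = h.q y * h.q x) : x * y = y * x := by
  refine h.ext (mul_mem hx hy) (mul_mem hy hx) ?_ ?_
  · rw [h.p_hom hx hy, h.p_hom hy hx, e1]
  · rw [h.q_hom hx hy, h.q_hom hy hx, e2]

theorem commutes_A {a x : G} (ha : a ∈ h.A) (hx : x ∈ (S : Subgroup G)) (e : a * h.p x = h.p x * a) :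
    a * x = x * a :=
  h.commutes (h.le ha) hx (by rwa [h.p_self ha]) (by rw [h.q_self ha, one_mul, mul_one])

theorem z_central {x : G} (hx : x ∈ (S : Subgroup G)) : x * h.z = h.z * x :=
  (h.commutes_A h.z_mem hx (h.dih.z_comm (h.p_mem hx)).symm).symm

theorem conj_of_mem_A {a x : G} (ha : a ∈ h.A) (hx : x ∈ (S : Subgroup G)) :
    a * x * a⁻¹ = a * h.p x * a⁻¹ * h.q x := by
  have hb := h.q_mem hx
  nth_rewrite 1 [(h.decomp hx).2.2]
  rw [mul_assoc a (h.p x * h.q x), mul_assoc (h.p x), ← h.comm (inv_mem ha) hb]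
  group

theorem p_sq {x : G} (hx : x ∈ (S : Subgroup G)) (h2 : x * x = 1) : h.p x * h.p x = 1 := by
  rw [← h.p_hom hx hx, h2, h.p_one]

theorem sq_rot {x : G} (hx : x ∈ (S : Subgroup G)) : h.p (x * x) ∈ h.C := by
  rw [h.p_hom hx hx]; exact h.dih.sq_mem (h.p_mem hx)

theorem p_invol_rot {x : G} (hx : x ∈ (S : Subgroup G)) (h2 : x * x = 1) (hc : h.p x ∈ h.C) :
    h.p x = 1 ∨ h.p x = h.z := h.dih.rot_invol hc (h.p_sq hx h2)

/-- The central involutions among the squares. -/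
theorem invol_rot_cases {x : G} (hx : x ∈ (S : Subgroup G)) (h2 : x * x = 1) (h1 : x ≠ 1)
    (hp : h.p x ∈ h.C) (hq : h.q x ∈ h.swap.C) : x = h.z ∨ x = h.swap.z ∨ x = h.z * h.swap.z := by
  have e := (h.decomp hx).2.2
  rcases h.p_invol_rot hx h2 hp with e1 | e1 <;> rcases h.swap.p_invol_rot hx h2 hq with e2 | e2
  · exact absurd (by rw [e, e1, show h.q x = 1 from e2, mul_one]) h1
  · exact Or.inr (Or.inl (by rw [e, e1, show h.q x = h.swap.z from e2, one_mul]))
  · exact Or.inl (by rw [e, e1, show h.q x = 1 from e2, mul_one])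
  · exact Or.inr (Or.inr (by rw [e, e1, show h.q x = h.swap.z from e2]))

end Split

end CfsgLib.ProductFusion
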