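import Cfsg.Agent.Lib.ProductFusion.Big

/-!
The transvection induced by a square root of the central involution on an elementary member of the family.
-/

set_option autoImplicit false
set_option linter.unusedSectionVars false
set_option linter.style.haveILetI false

namespace CfsgLib.ProductFusion

open Subgroup Cfsg
open CfsgLib.Techniques.AlperinGoldschmidtCore (good)

variable {G : Type*} [Group G] [Finite G]

namespace Split

variable {S : Sylow 2 G} (h : Split S) {X : Subgroup G} (hX : X ∈ good S)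
include hX

theorem root_fixes {x : G} (hx : x ∈ X) (hc : h.p x ∈ h.C) :
    h.root * x * h.root⁻¹ = x := by
  have hxS := good_le hX hx
  rw [h.conj_of_mem_A (h.C_le h.root_mem) hxS, h.dih.rot_comm h.root_mem hc, mul_inv_cancel_right]
  exact (h.decomp hxS).2.2.symm

theorem root_moves (hk : 1 ≤ h.k) {x : G} (hx : x ∈ X) (hc : h.p x ∉ h.C) :
    h.root * x * h.root⁻¹ = x * h.z := by
  have hxS := good_le hX hx
  rw [h.conj_of_mem_A (h.C_le h.root_mem) hxS, h.root_refl hk (h.p_mem hxS) hc]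
  nth_rewrite 3 [(h.decomp hxS).2.2]
  rw [mul_assoc, h.comm h.z_mem (h.q_mem hxS), mul_assoc]

theorem root_mem_normalizer (hk : 1 ≤ h.k) :
    h.root ∈ normalizer (X : Set G) := by
  refine Fusion.mem_normalizer_of_forall fun x hx => ?_
  by_cases hc : h.p x ∈ h.C
  · rwa [h.root_fixes hX hx hc]
  · rw [h.root_moves hX hk hx hc]
    exact mul_mem hx (h.z_mem_good hX)

/-- An element of the normalizer fixing `z` preserves the elements with rotational first component. -/
theorem fix_p_rot (hk : 1 ≤ h.k) (hel : ∀ x ∈ X, x * x = 1) {g : G} (hg : g ∈ normalizer (X : Set G))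
    (hgz : g * h.z * g⁻¹ = h.z) {x : G} (hx : x ∈ X) (hc : h.p x ∈ h.C) : h.p (g * x * g⁻¹) ∈ h.C := by
  haveI : Fact (Nat.Prime 2) := ⟨Nat.prime_two⟩
  have hXS := good_le hX
  have hzX := h.z_mem_good hX
  set Nz := normalizer (X : Set G) ⊓ centralizer ({h.z} : Set G) with hNz
  have hfixz : ∀ a ∈ Nz, ∀ e ∈ zpowers h.z, a * e * a⁻¹ = e := by
    intro a ha e he
    obtain ⟨i, rfl⟩ := mem_zpowers_iff.1 he
    rw [← conj_zpow, mem_centralizer_singleton_iff.1 ha.2, mul_inv_cancel_right]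
  let K : Subgroup G :=
    { carrier := {n | n ∈ Nz ∧ ∀ y ∈ X, y⁻¹ * (n * y * n⁻¹) ∈ zpowers h.z}
      one_mem' := ⟨one_mem _, fun y _ => by simp⟩
      mul_mem' := fun {a b} ha hb => ⟨mul_mem ha.1 hb.1, fun y hy => by
        have e := hfixz a ha.1 _ (hb.2 y hy)
        have := mul_mem (ha.2 y hy) (hb.2 y hy)
        rwa [← e, show y⁻¹ * (a * y * a⁻¹) * (a * (y⁻¹ * (b * y * b⁻¹)) * a⁻¹) =
          y⁻¹ * (a * b * y * (a * b)⁻¹) by group] at this⟩
      inv_mem' := fun {a} ha => ⟨inv_mem ha.1, fun y hy => by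
        have e := hfixz a⁻¹ (inv_mem ha.1) _ (inv_mem (ha.2 y hy))
        have := inv_mem (ha.2 y hy)
        rwa [← e, show a⁻¹ * (y⁻¹ * (a * y * a⁻¹))⁻¹ * a⁻¹⁻¹ = y⁻¹ * (a⁻¹ * y * a⁻¹⁻¹) by group] at this⟩ }
  have hKN : K ≤ Nz := fun n hn => hn.1
  have hKn : ∀ m ∈ Nz, ∀ n ∈ K, m * n * m⁻¹ ∈ K := by
    intro m hm n hn
    refine ⟨mul_mem (mul_mem hm hn.1) (inv_mem hm), fun y hy => ?_⟩
    have := hn.2 _ (mem_normalizer_conj (inv_mem hm.1) hy)
    rwa [← hfixz m hm _ this, show m * ((m⁻¹ * y * m⁻¹⁻¹)⁻¹ * (n * (m⁻¹ * y * m⁻¹⁻¹) * n⁻¹)) * m⁻¹ =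
      y⁻¹ * (m * n * m⁻¹ * y * (m * n * m⁻¹)⁻¹) by group] at this
  have hrootK : h.root ∈ K := by
    refine ⟨⟨h.root_mem_normalizer hX hk, mem_centralizer_singleton_iff.2 (h.z_central h.root_mem_sylow)⟩,
      fun y hy => ?_⟩
    by_cases hcy : h.p y ∈ h.C
    · rw [h.root_fixes hX hy hcy, inv_mul_cancel]; exact one_mem _
    · rw [h.root_moves hX hk hy hcy, inv_mul_cancel_left]; exact mem_zpowers _
  -- the Sylow part of `K` and the centralizer fill `K`
  set L := ((S : Subgroup G) ⊓ K) ⊔ centralizer (X : Set G) with hL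
  have hKL : K ≤ L := by
    rw [← relIndex_eq_one]
    by_contra hne
    obtain ⟨r, hr, hdvd⟩ := Nat.exists_prime_and_dvd hne
    haveI := Fact.mk hr
    rcases eq_or_ne r 2 with rfl | hr2
    · have hfull : ¬ 2 ∣ ((S : Subgroup G) ⊓ Nz).relIndex Nz := by
        intro hd
        refine hX.2.1 (hd.trans ?_)
        have e : (S : Subgroup G) ⊓ normalizer (X : Set G) = (S : Subgroup G) ⊓ Nz :=
          le_antisymm (fun s hs => ⟨hs.1, hs.2, mem_centralizer_singleton_iff.2 (h.z_central hs.1)⟩)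
            (inf_le_inf_left _ inf_le_left)
        rw [e]
        exact ⟨_, (relIndex_mul_relIndex _ _ _ inf_le_right inf_le_left).symm⟩
      let T : Sylow 2 ↥Nz := (S.2.comap_subtype (K := Nz)).toSylow (by
        rwa [inf_relIndex_right] at hfull)
      haveI : (K.subgroupOf Nz).Normal := ⟨fun n hn m => hKn m m.2 n hn⟩
      have := LocalEven.not_dvd_relIndex_inf_of_isSubnormal T (Normal.isSubnormal ‹(K.subgroupOf Nz).Normal›)
      rw [inf_relIndex_right, show (T : Subgroup ↥Nz) = (S : Subgroup G).subgroupOf Nz from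
        IsPGroup.toSylow_coe _ _, relIndex_subgroupOf hKN, ← inf_relIndex_right] at this
      exact this (hdvd.trans (relIndex_dvd_of_le_left _ le_sup_left))
    · obtain ⟨P⟩ : Nonempty (Sylow r ↥K) := inferInstance
      have hle : (P : Subgroup ↥K) ≤ L.subgroupOf K := fun y hy => by
        refine mem_sup_right (centralizes_of_series (isPGroup_good hX) (zpowers_le.2 hzX) ?_
          (hfixz (y : G) (hKN y.2)) y.2.2)
        show Odd (orderOf (y : G))
        rw [orderOf_coe]
        obtain ⟨j, hj⟩ := IsPGroup.iff_orderOf.1 P.2 ⟨y, hy⟩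
        rw [orderOf_mk] at hj
        rw [hj]
        exact (hr.odd_of_ne_two hr2).pow
      exact P.not_dvd_index (hdvd.trans (index_dvd_of_le hle))
  -- `K` fixes the elements with rotational first component
  have hKfix : ∀ n ∈ K, ∀ y ∈ X, h.p y ∈ h.C → n * y * n⁻¹ = y := by
    intro n hn y hy hcy
    have hn' : n ∈ centralizer (X : Set G) ⊔ ((S : Subgroup G) ⊓ K) := by rw [sup_comm]; exact hKL hn
    have hnorm : (S : Subgroup G) ⊓ K ≤ normalizer ((centralizer (X : Set G) : Subgroup G) : Set G) :=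
      fun s hs => Fusion.normalizer_le_normalizer_centralizer X (hKN hs.2).1
    obtain ⟨c, hc, s, hs, rfl⟩ := Solvable.exists_mul_of_mem_sup hnorm hn'
    have hyS := hXS hy
    have hsy : s * y * s⁻¹ = y := by
      refine h.ext (mul_mem (mul_mem hs.1 hyS) (inv_mem hs.1)) hyS ?_ ?_
      · rw [h.p_conj hs.1 hyS]
        rcases h.p_invol_rot hyS (hel y hy) hcy with e | e <;> rw [e]
        · rw [mul_one, mul_inv_cancel]
        · rw [h.dih.z_comm (h.p_mem hs.1), mul_inv_cancel_right]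
      · obtain ⟨i, hi⟩ := mem_zpowers_iff.1 (hs.2.2 y hy)
        rw [show s * y * s⁻¹ = y * h.z ^ i by rw [hi, mul_inv_cancel_left],
          h.q_hom hyS (zpow_mem h.z_mem_sylow i), h.q_self (zpow_mem h.z_mem i), mul_one]
    rw [show c * s * y * (c * s)⁻¹ = c * (s * y * s⁻¹) * c⁻¹ by group, hsy,
      ← mem_centralizer_iff.1 hc y hy, mul_inv_cancel_right]
  by_contra hbad
  have hgN : g ∈ Nz := ⟨hg, mem_centralizer_singleton_iff.2 (by
    conv_rhs => rw [← hgz]
    group)⟩
  have h1 := hKfix _ (hKn g⁻¹ (inv_mem hgN) _ hrootK) x hx hc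
  have h2 : h.root * (g * x * g⁻¹) * h.root⁻¹ = g * x * g⁻¹ := by
    conv_rhs => rw [← h1]
    group
  rw [h.root_moves hX hk (mem_normalizer_conj hg hx) hbad, mul_eq_left] at h2
  exact h.dih.z_ne h2

end Split

end CfsgLib.ProductFusion
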