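import Cfsg.Agent.Lib.ProductFusion.Transvection

/-!
Change of one factor by a homomorphism into a central subgroup of order two of the other, and the
classes of reflections.
-/

set_option autoImplicit false
set_option linter.unusedSectionVars false

namespace CfsgLib.ProductFusion

open Subgroup Cfsg

variable {G : Type*} [Group G]

namespace Split

variable {S : Sylow 2 G} (h : Split S)

/-- The power of a central involution prescribed by an exponent modulo two. -/
def pw (c : G) (a : ZMod 2) : G := if a = 0 then 1 else c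

theorem pw_add {c : G} (hc : c * c = 1) (a b : ZMod 2) : pw c (a + b) = pw c a * pw c b := by
  rcases zmod_two a with rfl | rfl <;> rcases zmod_two b with rfl | rfl <;>
    simp [pw, hc, show (1 : ZMod 2) + 1 = 0 from CharTwo.add_self_eq_zero _]

theorem pw_mem {c : G} {B : Subgroup G} (hc : c ∈ B) (a : ZMod 2) : pw c a ∈ B := by
  unfold pw; split
  exacts [one_mem _, hc]

/-- The data for a twist of the first factor: a homomorphism into the central involutions of the second. -/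
structure Twist where
  ν : G → G
  ν_mem : ∀ x ∈ h.A, ν x ∈ h.B
  ν_sq : ∀ x ∈ h.A, ν x * ν x = 1
  ν_central : ∀ x ∈ h.A, ∀ y ∈ (S : Subgroup G), y * ν x = ν x * y
  ν_mul : ∀ x ∈ h.A, ∀ y ∈ h.A, ν (x * y) = ν x * ν y

/-- The twist by a parity and a central involution. -/
def Twist.ofPw {c : G} {φ : G → ZMod 2} (hc : c ∈ h.B) (h2 : c * c = 1)
    (hcen : ∀ x ∈ (S : Subgroup G), x * c = c * x)
    (hφ : ∀ x ∈ h.A, ∀ y ∈ h.A, φ (x * y) = φ x + φ y) : Twist h where
  ν x := pw c (φ x)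
  ν_mem x _ := pw_mem hc _
  ν_sq x _ := by rw [← pw_add h2, CharTwo.add_self_eq_zero]; simp [pw]
  ν_central x _ y hy := by
    unfold pw; split
    · simp
    · exact hcen y hy
  ν_mul x hx y hy := by rw [hφ x hx y hy, pw_add h2]

variable {h} (t : Twist h)

theorem Twist.ν_one : t.ν 1 = 1 := by
  have := t.ν_mul 1 (one_mem _) 1 (one_mem _)
  rwa [mul_one, left_eq_mul] at this

/-- The twisted map on the first factor. -/
def Twist.map : ↥h.A →* G :=
  MonoidHom.mk' (fun d => d * t.ν d) fun a b => by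
    rw [Subgroup.coe_mul, t.ν_mul a a.2 b b.2, mul_assoc (a : G) b, mul_assoc (a : G),
      ← mul_assoc (b : G), t.ν_central a a.2 b (h.le b.2)]
    group

theorem Twist.map_apply (d : ↥h.A) : t.map d = d * t.ν d := rfl

theorem Twist.map_injective : Function.Injective t.map := by
  rw [injective_iff_map_eq_one]
  intro d hd
  exact Subtype.ext (h.eq_one d.2 (mul_eq_one_iff_eq_inv.1 hd ▸ inv_mem (t.ν_mem d d.2)))

theorem Twist.exists_of_mem {x : G} (hx : x ∈ t.map.range) : ∃ d ∈ h.A, x = d * t.ν d := by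
  obtain ⟨d, rfl⟩ := hx
  exact ⟨d, d.2, rfl⟩

theorem Twist.mem_range {d : G} (hd : d ∈ h.A) : d * t.ν d ∈ t.map.range := ⟨⟨d, hd⟩, rfl⟩

/-- The twisted splitting. -/
@[reducible] noncomputable def Twist.split : Split S where
  A := t.map.range
  B := h.B
  r := t.map ⟨h.r, h.dih.r_mem⟩
  s := t.map ⟨h.s, h.dih.s_mem⟩
  k := h.k
  r' := h.r'
  s' := h.s'
  k' := h.k'
  dih :=
    { order_r := by rw [orderOf_injective _ t.map_injective, orderOf_mk]; exact h.dih.order_r
      r_mem := ⟨_, rfl⟩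
      s_mem := ⟨_, rfl⟩
      s_not := fun hh => h.dih.s_not (by
        obtain ⟨i, hi⟩ := mem_zpowers_iff.1 hh
        rw [← map_zpow] at hi
        exact mem_zpowers_iff.2 ⟨i, congrArg Subtype.val (t.map_injective hi)⟩)
      s_sq := by
        rw [← map_mul, show (⟨h.s, h.dih.s_mem⟩ : ↥h.A) * ⟨h.s, h.dih.s_mem⟩ = 1 from Subtype.ext h.dih.s_sq,
          map_one]
      inv := by
        rw [← map_inv t.map, ← map_inv t.map, ← map_mul, ← map_mul]
        exact congrArg _ (Subtype.ext h.dih.inv)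
      cover := by
        rintro x ⟨d, rfl⟩
        rcases h.dih.cover d d.2 with hc | hc <;> obtain ⟨i, hi⟩ := mem_zpowers_iff.1 hc
        · left
          refine mem_zpowers_iff.2 ⟨i, ?_⟩
          rw [← map_zpow]
          exact congrArg _ (Subtype.ext hi)
        · right
          refine mem_zpowers_iff.2 ⟨i, ?_⟩
          rw [← map_zpow, ← map_mul]
          exact congrArg _ (Subtype.ext hi) }
  dih' := h.dih'
  iso := h.iso.map fun e => (MonoidHom.ofInjective t.map_injective).symm.trans e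
  iso' := h.iso'
  prod := by
    refine ⟨?_, h.le', ?_, ?_, ?_⟩
    · rintro x ⟨d, rfl⟩
      exact mul_mem (h.le d.2) (h.le' (t.ν_mem d d.2))
    · rintro x ⟨d, rfl⟩ b hb
      rw [t.map_apply]
      have hcb : t.ν d * b = b * t.ν d := (t.ν_central d d.2 b (h.le' hb)).symm
      rw [mul_assoc, hcb, ← mul_assoc, h.comm d.2 hb, mul_assoc]
    · refine eq_bot_iff.2 ?_
      rintro x ⟨⟨d, rfl⟩, hb⟩
      rw [t.map_apply] at hb ⊢
      have h1 := h.eq_one d.2 (by simpa using h.B.mul_mem hb (inv_mem (t.ν_mem d d.2)))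
      rw [mem_bot, h1, t.ν_one, one_mul]
    · refine le_antisymm (sup_le ?_ h.le') ?_
      · rintro x ⟨d, rfl⟩
        exact mul_mem (h.le d.2) (h.le' (t.ν_mem d d.2))
      · rw [← h.prod.2.2.2.2]
        refine sup_le (fun d hd => ?_) le_sup_right
        have h1 : d * t.ν d ∈ t.map.range ⊔ h.B := mem_sup_left (t.mem_range hd)
        have h2 : t.ν d ∈ t.map.range ⊔ h.B := mem_sup_right (t.ν_mem d hd)
        simpa using mul_mem h1 (inv_mem h2)

theorem Twist.z_eq (hk : 1 ≤ h.k) : t.split.z = h.z := by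
  show t.map ⟨h.r, h.dih.r_mem⟩ ^ 2 ^ h.k = h.z
  have hw : h.r ^ 2 ^ (h.k - 1) ∈ h.A := pow_mem h.dih.r_mem _
  have h0 : t.ν h.z = 1 := by
    have := t.ν_mul _ hw _ hw
    rw [h.dih.exists_root hk, t.ν_sq _ hw] at this
    exact this
  rw [← map_pow, t.map_apply, SubmonoidClass.coe_pow, h0, mul_one]

theorem Twist.refl_iff {d : G} (hd : d ∈ h.A) : d * t.ν d ∉ t.split.C ↔ d ∉ h.C := by
  refine not_congr ⟨fun hh => ?_, fun hh => ?_⟩
  · obtain ⟨i, hi⟩ := mem_zpowers_iff.1 hh
    rw [← map_zpow, ← t.map_apply ⟨d, hd⟩] at hi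
    exact mem_zpowers_iff.2 ⟨i, congrArg Subtype.val (t.map_injective hi)⟩
  · obtain ⟨i, hi⟩ := mem_zpowers_iff.1 hh
    refine mem_zpowers_iff.2 ⟨i, ?_⟩
    show t.map ⟨h.r, h.dih.r_mem⟩ ^ i = _
    rw [← map_zpow, show (⟨h.r, h.dih.r_mem⟩ : ↥h.A) ^ i = ⟨d, hd⟩ from Subtype.ext hi, t.map_apply]

variable (h)

/-- The parity attached to a reflection. -/
theorem exists_class {v : G} (hv : v ∈ h.A) (hn : v ∉ h.C) :
    ∃ φ : G → ZMod 2, (∀ x ∈ h.A, ∀ y ∈ h.A, φ (x * y) = φ x + φ y) ∧ φ v = 1 ∧ φ h.r = 1 := by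
  have hd : Dih h.A h.r v h.k :=
    { order_r := h.dih.order_r
      r_mem := h.dih.r_mem
      s_mem := hv
      s_not := hn
      s_sq := h.dih.refl_sq hv hn
      inv := h.dih.refl_conj hv hn (mem_zpowers _)
      cover := fun x hx => (em (x ∈ h.C)).imp_right fun hx' => h.dih.refl_mul hv hn hx hx' }
  obtain ⟨φ, hadd, h1, h2⟩ := hd.exists_hom 1 0
  refine ⟨φ, hadd, h1, ?_⟩
  rw [hadd _ hv _ h.dih.r_mem, h1] at h2
  exact (CharTwo.add_eq_zero.1 h2).symm

/-- Reflections of the same parity are conjugate in the factor. -/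
theorem exists_conj_of_parity {φ : G → ZMod 2} (hadd : ∀ x ∈ h.A, ∀ y ∈ h.A, φ (x * y) = φ x + φ y)
    (hr : φ h.r = 1) {v v' : G} (hv : v ∈ h.A) (hn : v ∉ h.C) (hv' : v' ∈ h.A) (hn' : v' ∉ h.C)
    (he : φ v = φ v') : ∃ a ∈ h.A, a * v * a⁻¹ = v' := by
  have hc := h.dih.refl_mul hv hn hv' hn'
  have e : φ (v * v') = 0 := by rw [hadd v hv v' hv', he, CharTwo.add_self_eq_zero]
  obtain ⟨i, hi⟩ := mem_zpowers_iff.1 hc
  obtain ⟨j, hj⟩ : Even i := by
    rcases Int.even_or_odd i with hev | ⟨j, rfl⟩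
    · exact hev
    exfalso
    have hjA : h.r ^ j ∈ h.A := zpow_mem h.dih.r_mem j
    rw [← hi, zpow_add, two_mul, zpow_add, zpow_one, hadd _ (mul_mem hjA hjA) _ h.dih.r_mem,
      hadd _ hjA _ hjA, CharTwo.add_self_eq_zero, hr, zero_add] at e
    exact one_ne_zero e
  refine ⟨(h.r ^ j)⁻¹, inv_mem (zpow_mem h.dih.r_mem j), ?_⟩
  rw [h.dih.refl_conj_of_sq hv hn (inv_mem (zpow_mem (mem_zpowers _) j)), inv_inv, ← zpow_add, ← hj, hi,
    ← mul_assoc, h.dih.refl_sq hv hn, one_mul]

/-- No element of the first factor is conjugate to an element of `S` outside of it. -/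
def Sep : Prop := ∀ x ∈ h.A, x * x = 1 → ∀ y ∈ (S : Subgroup G), IsConj x y → h.q y = 1

theorem isConj_conj (g x : G) : IsConj x (g * x * g⁻¹) := isConj_iff.2 ⟨g, rfl⟩

theorem isConj_map {x y : G} (g : G) (e : g * x * g⁻¹ = y) {a : G} (hx : IsConj x a) : IsConj y a :=
  (isConj_iff.2 ⟨g, e⟩ : IsConj x y).symm.trans hx

end Split

end CfsgLib.ProductFusion
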